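import Groth.Agent.ProjFormLib.Frame
import Groth.Agent.RpushLib.Ab
import Groth.Agent.CohTopLib.Basic
import Groth.Agent.CurvLib.EulerTensor

/-!
# The projection formula for finite locally free modules
-/

set_option autoImplicit false

universe u

open CategoryTheory CategoryTheory.Limits AlgebraicGeometry TopologicalSpace Opposite
open scoped TensorProduct

attribute [local instance] HasDerivedCategory.standard

namespace ProjFormLib

open KFlatLib

variable {X Y : Scheme.{u}}

/-- Tensoring with `E`. -/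
noncomputable abbrev tF (E : X.Modules) : X.Modules ⥤ X.Modules := (DCoh.tensorBi (X := X)).obj E

theorem shortExact_tens {E : X.Modules} (hE : FlatMod.IsFinLocFree E) {S : ShortComplex X.Modules}
    (hS : S.ShortExact) : (S.map (tF E)).ShortExact := by
  refine CurvLib.shortExact_of_stalks _ fun x => ?_
  let St := DerSch.stalkFunctor X x
  haveI : Module.Flat (X.presheaf.stalk x) (St.obj E) := flat_stalk hE x
  have hx := hS.map_of_exact St
  let T := (S.map St).map (MonoidalCategory.tensorLeft (St.obj E))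
  have hT : T.ShortExact :=
    { exact := Module.Flat.lTensor_shortComplex_exact (St.obj E) _ hx.exact
      mono_f := (ModuleCat.mono_iff_injective _).mpr
        (Module.Flat.lTensor_preserves_injective_linearMap _
          ((ModuleCat.mono_iff_injective _).mp hx.mono_f))
      epi_g := (ModuleCat.epi_iff_surjective _).mpr
        (LinearMap.lTensor_surjective _ ((ModuleCat.epi_iff_surjective _).mp hx.epi_g)) }
  exact ShortComplex.shortExact_of_iso
    (ShortComplex.isoMk (stalkTensorIso E S.X₁ x) (stalkTensorIso E S.X₂ x)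
      (stalkTensorIso E S.X₃ x)
      (stalkTensorIso_natural_right (M := E) x S.f).symm
      (stalkTensorIso_natural_right (M := E) x S.g).symm :
      T ≅ (S.map (tF E)).map St) hT

theorem preservesHomology_tens {E : X.Modules} (hE : FlatMod.IsFinLocFree E) :
    (tF E).PreservesHomology :=
  ((tF E).exact_tfae.out 0 2 rfl rfl).mp fun _ hS => shortExact_tens hE hS

/-- A map that is bijective on sections over small opens is an isomorphism. -/
theorem isIso_of_sections {M N : X.Modules} (φ : M ⟶ N)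
    (h : ∀ x : X, ∃ U : X.Opens, x ∈ U ∧ ∀ V ≤ U, Function.Bijective (φ.app V)) : IsIso φ := by
  refine isIso_of_stalks φ fun x => (ConcreteCategory.isIso_iff_bijective _).2 ⟨fun a b hab => ?_, fun b => ?_⟩
  · obtain ⟨U, hxU, hU⟩ := h x
    obtain ⟨W₁, h₁, s, rfl⟩ := exists_ger M x a
    obtain ⟨W₂, h₂, t, rfl⟩ := exists_ger M x b
    obtain ⟨W, hxW, i₁, i₂, hW⟩ := N.presheaf.germ_eq x h₁ h₂ _ _
      ((ger_map φ x h₁ s).symm.trans (hab.trans (ger_map φ x h₂ t)))
    let W' := W ⊓ U
    have e : res M (inf_le_left.trans i₁.le : W' ≤ W₁) s = res M (inf_le_left.trans i₂.le : W' ≤ W₂) t := by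
      apply (hU W' inf_le_right).1
      rw [QCohLib.app_map, QCohLib.app_map]
      refine Eq.trans ?_ ((congrArg (N.presheaf.map (homOfLE (inf_le_left : W' ≤ W)).op) hW).trans ?_)
      · exact ConcreteCategory.congr_hom (N.presheaf.map_comp i₁.op (homOfLE (inf_le_left : W' ≤ W)).op) _
      · exact (ConcreteCategory.congr_hom (N.presheaf.map_comp i₂.op (homOfLE (inf_le_left : W' ≤ W)).op) _).symm
    rw [← ger_res M (inf_le_left.trans i₁.le : W' ≤ W₁) x ⟨hxW, hxU⟩ s, e, ger_res]
  · obtain ⟨U, hxU, hU⟩ := h x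
    obtain ⟨W, hW, t, rfl⟩ := exists_ger N x b
    obtain ⟨s, hs⟩ := (hU (W ⊓ U) inf_le_right).2 (res N inf_le_left t)
    exact ⟨ger M x (U := W ⊓ U) ⟨hW, hxU⟩ s, (ger_map φ x _ s).trans (by rw [hs, ger_res])⟩

variable (f : X ⟶ Y) (E : Y.Modules)

/-- The projection map `E ⊗ f_* F ⟶ f_*(f^* E ⊗ F)`. -/
noncomputable def projApp (F : X.Modules) : tens E (pf f F) ⟶ pf f (tens (pb f E) F) :=
  ((DCoh.tensorBi (X := Y)).map ((Scheme.Modules.pullbackPushforwardAdjunction f).unit.app E)).app (pf f F) ≫
    pushμ f (pb f E) F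

theorem projApp_shTm (F : X.Modules) {U : Y.Opens} (a : Γ(E, U)) (b : Γ(pf f F, U)) :
    (projApp f E F).app U (shTm a b) = shTm (puSec f a) (show Γ(F, f ⁻¹ᵁ U) from b) :=
  (congrArg ((pushμ f (pb f E) F).app U) (tensorBi_map₁_shTm _ (pf f F) a b)).trans
    (pushμ_shApp f (pb f E) F U _ b)

/-- The projection map as a natural transformation. -/
noncomputable def projNat :
    Scheme.Modules.pushforward f ⋙ tF E ⟶ tF (pb f E) ⋙ Scheme.Modules.pushforward f where
  app F := projApp f E F
  naturality F F' φ := by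
    refine tens_hom_ext fun U a b => ?_
    refine ((congrArg ((projApp f E F').app U) (tensorBi_map₂_shTm E ((Scheme.Modules.pushforward f).map φ) a b)).trans
      (projApp_shTm f E F' a _)).trans (Eq.symm ?_)
    refine (congrArg (((Scheme.Modules.pushforward f).map ((tF (pb f E)).map φ)).app U)
      (projApp_shTm f E F a b)).trans ?_
    exact tensorBi_map₂_shTm (pb f E) φ (puSec f a) (show Γ(F, f ⁻¹ᵁ U) from b)

theorem puSec_res {U V : Y.Opens} (h : V ≤ U) (a : Γ(E, U)) :
    puSec f (res E h a) = res (pb f E) (fun x hx => h hx : f ⁻¹ᵁ V ≤ f ⁻¹ᵁ U) (puSec f a) :=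
  QCohLib.app_map ((Scheme.Modules.pullbackPushforwardAdjunction f).unit.app E) (homOfLE h) a

variable {E} {n : ℕ} {U : Y.Opens} {e : Fin n → Γ(E, U)}

/-- Pullback of a frame. -/
theorem IsFrame.pull (he : IsFrame E e) : IsFrame (pb f E) fun i => puSec f (e i) := by
  intro x hx
  letI := (f.stalkMap x).hom.toAlgebra
  let b := Algebra.TensorProduct.basis (X.presheaf.stalk x) (he.basis (f x) hx)
  let b' := b.map (((stalkPullIso f x).app E).symm.toLinearEquiv)
  have hb : ∀ i, b' i = ger (pb f E) x hx (puSec f (e i)) := by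
    intro i
    refine (congrArg ((stalkPullIso f x).inv.app E).hom
      ((Algebra.TensorProduct.basis_apply _ i).trans (congrArg (1 ⊗ₜ[Y.presheaf.stalk (f x)] ·)
        (he.basis_apply (f x) hx i)))).trans ?_
    exact stalkPullInv_germ f E x hx (e i)
  have : ⇑(Fintype.linearCombination (X.presheaf.stalk x) fun i => ger (pb f E) x hx (puSec f (e i))) =
      b'.equivFun.symm := by
    funext c
    rw [Fintype.linearCombination_apply, Module.Basis.equivFun_symm_apply]
    exact Finset.sum_congr rfl fun i _ => by rw [hb]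
  rw [this]
  exact b'.equivFun.symm.bijective

theorem projApp_phi (F : X.Modules) {V : Y.Opens} (h : V ≤ U) (m : Fin n → Γ(pf f F, V)) :
    (projApp f E F).app V (phi e (pf f F) h m) =
      phi (fun i => puSec f (e i)) F (fun x hx => h hx : f ⁻¹ᵁ V ≤ f ⁻¹ᵁ U)
        (fun i => (show Γ(F, f ⁻¹ᵁ V) from m i)) := by
  refine (map_sum ((projApp f E F).app V).hom _ _).trans (Finset.sum_congr rfl fun i _ => ?_)
  exact (projApp_shTm f E F _ (m i)).trans (congrArg (shTm · _) (puSec_res f E h (e i)))

theorem isIso_projApp (hE : FlatMod.IsFinLocFree E) (F : X.Modules) : IsIso (projApp f E F) := by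
  refine isIso_of_sections _ fun y => ?_
  obtain ⟨U, n, e, hy, he⟩ := exists_frame hE y
  refine ⟨U, hy, fun V hV => ?_⟩
  have h₁ := phi_bijective (pf f F) he hV
  have h₂ : Function.Bijective (fun m => (projApp f E F).app V (phi e (pf f F) hV m)) := by
    simp only [projApp_phi]
    exact phi_bijective F (he.pull f) (fun x hx => hV hx)
  exact (Function.Bijective.of_comp_iff ((projApp f E F).app V) h₁).1 h₂

variable (E)

/-- The projection isomorphism. -/
noncomputable def projIso' (hE : FlatMod.IsFinLocFree E) :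
    Scheme.Modules.pushforward f ⋙ tF E ≅ tF (pb f E) ⋙ Scheme.Modules.pushforward f :=
  @NatIso.ofComponents _ _ _ _ _ _
    (fun F => @asIso _ _ _ _ (projApp f E F) (isIso_projApp f hE F))
    fun φ => (projNat f E).naturality φ

theorem isFinLocFree_pb (hE : FlatMod.IsFinLocFree E) : ∀ x : X, ∃ (U : X.Opens) (n : ℕ)
    (e : Fin n → Γ(pb f E, U)), x ∈ U ∧ IsFrame (pb f E) e := fun x => by
  obtain ⟨U, n, e, hy, he⟩ := exists_frame hE (f x)
  exact ⟨_, n, _, hy, he.pull f⟩

theorem preservesHomology_tens_pb (hE : FlatMod.IsFinLocFree E) :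
    (tF (pb f E)).PreservesHomology := by
  refine preservesHomology_tens (isFinLocFree_of_freeNear fun x => ?_)
  obtain ⟨U, n, hx, ⟨φ⟩⟩ := hE (f x)
  let V : X.Opens := f ⁻¹ᵁ U
  let W : V.toScheme ⟶ U.toScheme := f ∣_ U
  refine ⟨V, hx, isFinFree_of_iso ?_
    (isFinFree_pull W ⟨n, ⟨((Scheme.Modules.restrictFunctorIsoPullback U.ι).app E).symm ≪≫ φ⟩⟩)⟩
  exact (Scheme.Modules.pullbackComp W U.ι).app E ≪≫
    (Scheme.Modules.pullbackCongr (morphismRestrict_ι f U)).app E ≪≫
    ((Scheme.Modules.pullbackComp V.ι f).app E).symm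

/-- Tensoring an injective module with `f^* E` gives an acyclic module for `f_*`. -/
theorem isZero_rpush_tens_injective [HasInjectiveResolutions X.Modules] (hE : FlatMod.IsFinLocFree E)
    (I : X.Modules) [Injective I] (q : ℕ) :
    IsZero ((Coh.Rpush f (q + 1)).obj (tens (pb f E) I)) := by
  let B : Set Y.Opens := {V | ∃ (U : Y.Opens) (n : ℕ) (e : Fin n → Γ(E, U)), V ≤ U ∧ IsFrame E e}
  have hB : Opens.IsBasis B := Opens.isBasis_iff_nbhd.mpr fun {W y} hy => by
    obtain ⟨U, n, e, hyU, he⟩ := exists_frame hE y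
    exact ⟨W ⊓ U, ⟨U, n, e, inf_le_right, he⟩, ⟨hy, hyU⟩, inf_le_left⟩
  let T := (QCohLib.toAbF X).obj (tens (pb f E) I)
  have hT : QCohLib.AcyclicAbove f.base B 0 T := by
    rintro V ⟨U, n, e, hVU, he⟩ k -
    obtain ⟨φ⟩ := CohTopLib.nonempty_HU_restr_equiv (QCohLib.pre f.base V) (k + 1) T
    have hfl : TopCat.Sheaf.IsFlasque ((CohTop.restrFunctor (QCohLib.pre f.base V)).obj T :
        TopCat.Sheaf AddCommGrpCat _) := by
      refine ⟨fun {W₁ W₂} i => (AddCommGrpCat.epi_iff_surjective _).mpr fun t => ?_⟩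
      let A₁ := CohTopLib.img (QCohLib.pre f.base V) W₁.unop
      let A₂ := CohTopLib.img (QCohLib.pre f.base V) W₂.unop
      have hA₂ : A₂ ≤ f ⁻¹ᵁ U := by
        rintro _ ⟨z, -, rfl⟩
        exact hVU z.2
      have hA₁ : A₁ ≤ f ⁻¹ᵁ U := by
        rintro _ ⟨z, -, rfl⟩
        exact hVU z.2
      have hle : A₂ ≤ A₁ := by
        rintro _ ⟨z, hz, rfl⟩
        exact ⟨z, i.unop.le hz, rfl⟩
      obtain ⟨m, hm⟩ := phi_surjective I (he.pull f) hA₂ t
      choose m' hm' using fun j => RpushLib.surjective_map_injective I hle (m j)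
      refine ⟨phi (fun j => puSec f (e j)) I hA₁ m', ?_⟩
      refine (phi_res _ I hA₁ hle m').trans (Eq.trans ?_ hm)
      exact congrArg _ (funext hm')
    have := QCohLib.subsingleton_of_isFlasque k ((CohTop.restrFunctor (QCohLib.pre f.base V)).obj T) ⊤
    exact (φ.trans (QCohLib.hEquiv _ (k + 1))).injective.subsingleton
  obtain ⟨a⟩ := RpushLib.nonempty_toAb_rpush_iso f (tens (pb f E) I) (q + 1)
  have h0 := (QCohLib.isZero_rightDerived (F := T) hB hT (Nat.succ_pos q)).of_iso a
  rw [IsZero.iff_id_eq_zero] at h0 ⊢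
  exact (QCohLib.toAbF Y).map_injective (((QCohLib.toAbF Y).map_id _).trans (h0.trans ((QCohLib.toAbF Y).map_zero _ _).symm))

/-- The projection formula. -/
theorem nonempty_projection_formula [HasInjectiveResolutions X.Modules] (hE : FlatMod.IsFinLocFree E)
    (F : X.Modules) (q : ℕ) :
    Nonempty ((tF E).obj ((Coh.Rpush f q).obj F) ≅ (Coh.Rpush f q).obj ((tF (pb f E)).obj F)) := by
  haveI : EnoughInjectives X.Modules := inferInstance
  haveI := preservesHomology_tens hE
  haveI := preservesHomology_tens_pb f E hE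
  let G := tF E
  let G' := tF (pb f E)
  let S := Scheme.Modules.pushforward f
  haveI : PreservesFiniteLimits S :=
    haveI : PreservesLimitsOfSize.{0, 0} S :=
      (Scheme.Modules.pullbackPushforwardAdjunction f).rightAdjoint_preservesLimits
    PreservesLimitsOfSize.preservesFiniteLimits _
  let I := injectiveResolution F
  have : QuasiIso I.ι := I.quasiIso
  let K := (G'.mapHomologicalComplex (ComplexShape.up ℕ)).obj I.cocomplex
  let i : (CochainComplex.single₀ _).obj (G'.obj F) ⟶ K :=
    (HomologicalComplex.singleMapHomologicalComplex G' (ComplexShape.up ℕ) 0).inv.app F ≫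
      (G'.mapHomologicalComplex _).map I.ι
  have : QuasiIso ((G'.mapHomologicalComplex (ComplexShape.up ℕ)).map I.ι) := by
    exact HomologicalComplex.quasiIso_map_of_preservesHomology _ _
  have : QuasiIso i := by dsimp only [i]; infer_instance
  obtain ⟨a⟩ := RpushLib.nonempty_rightDerived_iso_of_acyclic S K i (fun k => by
    rw [SpSeqLib.isSAcyclic_iff]
    intro p hp
    obtain ⟨p, rfl⟩ : ∃ p', p = p' + 1 := ⟨p - 1, by omega⟩
    have := I.injective k
    exact isZero_rpush_tens_injective f E hE (I.cocomplex.X k) p) q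
  let P := (S.mapHomologicalComplex (ComplexShape.up ℕ)).obj I.cocomplex
  let b : (G.mapHomologicalComplex _).obj P ≅ (S.mapHomologicalComplex _).obj K :=
    (NatIso.mapHomologicalComplex (projIso' f E hE) (ComplexShape.up ℕ)).app I.cocomplex
  exact ⟨G.mapIso (RpushLib.rpushIso f I q) ≪≫ ((P.sc q).mapHomologyIso G).symm ≪≫
    HomologicalComplex.homologyMapIso b q ≪≫ a.symm⟩

end ProjFormLib
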