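import Groth.Prelude.Def_FlatMod2
import Groth.Agent.KFlatLib.PullTensor
import Groth.Agent.KFlatLib.FPFlatFree
import Groth.Agent.QCohLib.Modules
import Mathlib.LinearAlgebra.TensorProduct.Basis

/-!
# Local frames of finite locally free modules

A frame of `E` over `U` is a finite family of sections whose germs form a basis of every stalk over `U`.
With a frame, the sections of `E ⊗ M` over `V ≤ U` are tuples of sections of `M`.
-/

set_option autoImplicit false

universe u

open CategoryTheory CategoryTheory.Limits AlgebraicGeometry TopologicalSpace Opposite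
open scoped TensorProduct

namespace ProjFormLib

open KFlatLib

variable {X : Scheme.{u}}

/-- Restriction of sections. -/
noncomputable abbrev res (M : X.Modules) {U V : X.Opens} (h : V ≤ U) (s : Γ(M, U)) : Γ(M, V) :=
  M.presheaf.map (homOfLE h).op s

/-- The germ, as an element of the stalk module. -/
noncomputable def ger (M : X.Modules) (y : X) {U : X.Opens} (hy : y ∈ U) (s : Γ(M, U)) :
    (DerSch.stalkFunctor X y).obj M :=
  M.presheaf.germ U y hy s

theorem ger_res (M : X.Modules) {U V : X.Opens} (h : V ≤ U) (y : X) (hy : y ∈ V) (s : Γ(M, U)) :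
    ger M y hy (res M h s) = ger M y (h hy) s :=
  TopCat.Presheaf.germ_res_apply M.presheaf (homOfLE h) y hy s

theorem ger_add (M : X.Modules) (y : X) {U : X.Opens} (hy : y ∈ U) (s t : Γ(M, U)) :
    ger M y hy (s + t) = ger M y hy s + ger M y hy t :=
  map_add (M.presheaf.germ U y hy).hom s t

theorem ger_smul (M : X.Modules) (y : X) {U : X.Opens} (hy : y ∈ U) (r : Γ(X, U)) (s : Γ(M, U)) :
    ger M y hy (r • s) = X.presheaf.germ U y hy r • ger M y hy s :=
  PresheafOfModules.germ_smul (show PM X.presheaf from M.val) y U hy r s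

theorem ger_map {M N : X.Modules} (φ : M ⟶ N) (y : X) {U : X.Opens} (hy : y ∈ U) (s : Γ(M, U)) :
    ((DerSch.stalkFunctor X y).map φ).hom (ger M y hy s) = ger N y hy (φ.app U s) :=
  DerSch.stalkFunctor_map_germ y φ U hy s

theorem exists_ger (M : X.Modules) (y : X) (a : (DerSch.stalkFunctor X y).obj M) :
    ∃ (U : X.Opens) (hy : y ∈ U) (s : Γ(M, U)), ger M y hy s = a := by
  obtain ⟨U, hy, s, hs⟩ := M.presheaf.exists_germ_eq (x := y) a
  exact ⟨U, hy, s, hs⟩

theorem section_ext {M : X.Modules} {U : X.Opens} (s t : Γ(M, U))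
    (h : ∀ y (hy : y ∈ U), ger M y hy s = ger M y hy t) : s = t :=
  TopCat.Presheaf.section_ext ((QCohLib.toAbF X).obj M : TopCat.Sheaf AddCommGrpCat.{u} X.toTopCat) U s t h

/-- A family of sections over `U` whose germs form a basis of every stalk over `U`. -/
def IsFrame (E : X.Modules) {n : ℕ} {U : X.Opens} (e : Fin n → Γ(E, U)) : Prop :=
  ∀ (y : X) (hy : y ∈ U),
    Function.Bijective (Fintype.linearCombination (X.presheaf.stalk y) fun i => ger E y hy (e i))

theorem IsFrame.res {E : X.Modules} {n : ℕ} {U : X.Opens} {e : Fin n → Γ(E, U)} (he : IsFrame E e)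
    {V : X.Opens} (h : V ≤ U) : IsFrame E fun i => res E h (e i) := by
  intro y hy
  simpa only [ger_res] using he y (h hy)

theorem IsFrame.map {E E' : X.Modules} (φ : E ≅ E') {n : ℕ} {U : X.Opens} {e : Fin n → Γ(E, U)}
    (he : IsFrame E e) : IsFrame E' fun i => φ.hom.app U (e i) := by
  intro y hy
  let L := ((DerSch.stalkFunctor X y).mapIso φ).toLinearEquiv
  have h : (Fintype.linearCombination (X.presheaf.stalk y) fun i => ger E' y hy (φ.hom.app U (e i))) =
      L.toLinearMap.comp (Fintype.linearCombination (X.presheaf.stalk y) fun i => ger E y hy (e i)) := by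
    ext c
    simp only [Fintype.linearCombination_apply, LinearMap.comp_apply, map_sum, map_smul]
    exact Finset.sum_congr rfl fun i _ => congrArg (_ • ·) (ger_map φ.hom y hy (e i)).symm
  rw [h]
  exact L.bijective.comp (he y hy)

/-- The basis of a stalk given by a frame. -/
noncomputable def IsFrame.basis {E : X.Modules} {n : ℕ} {U : X.Opens} {e : Fin n → Γ(E, U)}
    (he : IsFrame E e) (y : X) (hy : y ∈ U) :
    Module.Basis (Fin n) (X.presheaf.stalk y) ((DerSch.stalkFunctor X y).obj E) :=
  Module.Basis.ofEquivFun (LinearEquiv.ofBijective _ (he y hy)).symm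

theorem IsFrame.basis_apply {E : X.Modules} {n : ℕ} {U : X.Opens} {e : Fin n → Γ(E, U)}
    (he : IsFrame E e) (y : X) (hy : y ∈ U) (i : Fin n) : he.basis y hy i = ger E y hy (e i) := by
  classical
  rw [IsFrame.basis, Module.Basis.coe_ofEquivFun]
  simp [Fintype.linearCombination_apply, Pi.single_apply]

/-- The tautological sections of the free module form a frame. -/
theorem isFrame_freeMod (Z : Scheme.{u}) (n : ℕ) :
    ∃ t : Fin n → Γ(FlatMod.freeMod Z n, (⊤ : Z.Opens)), IsFrame (FlatMod.freeMod Z n) t := by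
  let ι := fun i : Fin n => Sigma.ι (fun _ : Fin n => Coh.structureModule Z) i
  let t : Fin n → Γ(FlatMod.freeMod Z n, (⊤ : Z.Opens)) := fun i =>
    (ι i).app ⊤ (show Γ(Coh.structureModule Z, (⊤ : Z.Opens)) from (1 : Γ(Z, ⊤)))
  refine ⟨t, fun y hy => ?_⟩
  let ψ := Fintype.linearCombination (Z.presheaf.stalk y) fun i => ger (FlatMod.freeMod Z n) y hy (t i)
  change Function.Bijective ψ
  have hsurj : Function.Surjective ψ := by
    rw [← LinearMap.range_eq_top, ← Submodule.ker_mkQ ψ.range, LinearMap.ker_eq_top]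
    have key : ModuleCat.ofHom ψ.range.mkQ = 0 := by
      refine (isColimitOfPreserves (DerSch.stalkFunctor Z y)
        (coproductIsCoproduct fun _ : Fin n => Coh.structureModule Z)).hom_ext fun i => ?_
      rw [comp_zero]
      refine ModuleCat.hom_ext (LinearMap.ext fun a => ?_)
      obtain ⟨W, hW, s, rfl⟩ := exists_ger _ y a
      refine (Submodule.Quotient.mk_eq_zero _).2 ?_
      obtain ⟨i⟩ := i
      refine ⟨Pi.single i (Z.presheaf.germ W y hW (show Γ(Z, W) from s)), ?_⟩
      refine Eq.trans ?_ (ger_map (ι i) y hW s).symm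
      rw [Fintype.linearCombination_apply_single]
      let one : Γ(Coh.structureModule Z, (⊤ : Z.Opens)) := (1 : Γ(Z, ⊤))
      have h1 : s = (show Γ(Z, W) from s) • res (Coh.structureModule Z) le_top one := by
        change (show Γ(Z, W) from s) = (show Γ(Z, W) from s) * Z.presheaf.map (homOfLE le_top).op (1 : Γ(Z, ⊤))
        exact (mul_one (show Γ(Z, W) from s)).symm.trans (congrArg _ (map_one (Z.presheaf.map (homOfLE le_top).op).hom).symm)
      conv_rhs => rw [h1, Scheme.Modules.Hom.app_smul, ger_smul, QCohLib.app_map, ger_res]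
    exact congr($(key).hom)
  have e : (DerSch.stalkFunctor Z y).obj (FlatMod.freeMod Z n) ≃ₗ[Z.presheaf.stalk y]
      (Fin n → Z.presheaf.stalk y) := (stalkFreeModIso Z y n).toLinearEquiv
  have hinj := OrzechProperty.injective_of_surjective_endomorphism (e.toLinearMap.comp ψ)
    (e.surjective.comp hsurj)
  exact ⟨fun a b h => hinj (congrArg e h), hsurj⟩

/-- Frames exist near every point. -/
theorem exists_frame {E : X.Modules} (hE : FlatMod.IsFinLocFree E) (x : X) :
    ∃ (U : X.Opens) (n : ℕ) (e : Fin n → Γ(E, U)), x ∈ U ∧ IsFrame E e := by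
  obtain ⟨U₀, n, hx, ⟨φ⟩⟩ := hE x
  obtain ⟨t, ht⟩ := isFrame_freeMod (U₀ : Scheme.{u}) n
  let F := E.restrict U₀.ι
  let s : Fin n → Γ(F, (⊤ : (U₀ : Scheme.{u}).Opens)) := fun i => φ.inv.app ⊤ (t i)
  have hs : IsFrame F s := ht.map φ.symm
  let j := U₀.ι
  refine ⟨j ''ᵁ ⊤, n, fun i => s i, ⟨⟨x, hx⟩, trivial, rfl⟩, ?_⟩
  rintro _ ⟨p, -, rfl⟩
  let θ := (Scheme.Modules.restrictStalkNatIso j p).hom.app E
  have hθ : Function.Bijective θ := ConcreteCategory.bijective_of_isIso θ
  let σ := inv (j.stalkMap p)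
  have hσ : Function.Bijective σ := ConcreteCategory.bijective_of_isIso σ
  have hσg : ∀ (W : (U₀ : Scheme.{u}).Opens) (hW : p ∈ W) (r : Γ(U₀, W)),
      σ ((U₀ : Scheme.{u}).presheaf.germ W p hW r) =
        X.presheaf.germ (j ''ᵁ W) (j p) ⟨p, hW, rfl⟩ ((j.appIso W).inv r) := by
    intro W hW r
    apply (ConcreteCategory.bijective_of_isIso (j.stalkMap p)).1
    rw [← ConcreteCategory.comp_apply, IsIso.inv_hom_id, ConcreteCategory.id_apply,
      Scheme.Hom.germ_stalkMap_apply, ← ConcreteCategory.comp_apply (j.appIso W).inv,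
      Scheme.Hom.appIso_inv_app, TopCat.Presheaf.germ_res_apply']
  have hθs : ∀ (c : (U₀ : Scheme.{u}).presheaf.stalk p) (a : (DerSch.stalkFunctor (U₀ : Scheme.{u}) p).obj F),
      (show (DerSch.stalkFunctor X (j p)).obj E from θ (c • a)) =
        σ c • (show (DerSch.stalkFunctor X (j p)).obj E from θ a) := by
    intro c a
    obtain ⟨W₁, hW₁, a, rfl⟩ := exists_ger _ p a
    obtain ⟨W₂, hW₂, r, rfl⟩ := (U₀ : Scheme.{u}).presheaf.exists_germ_eq (x := p) c
    rw [← ger_res F (inf_le_left : W₁ ⊓ W₂ ≤ W₁) p ⟨hW₁, hW₂⟩ a,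
      ← TopCat.Presheaf.germ_res_apply (U₀ : Scheme.{u}).presheaf (homOfLE (inf_le_right : W₁ ⊓ W₂ ≤ W₂))
        p ⟨hW₁, hW₂⟩ r, ← ger_smul, hσg]
    exact (ConcreteCategory.congr_hom (Scheme.Modules.germ_restrictStalkNatIso_hom_app j p E _) _).trans
      ((ger_smul E (j p) _ _ _).trans (congrArg (_ • ·)
        (ConcreteCategory.congr_hom (Scheme.Modules.germ_restrictStalkNatIso_hom_app j p E _) _).symm))
  have hkey : ∀ c : Fin n → (U₀ : Scheme.{u}).presheaf.stalk p,
      Fintype.linearCombination (X.presheaf.stalk (j p))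
          (fun i => ger E (j p) (U := j ''ᵁ ⊤) ⟨p, trivial, rfl⟩ (s i)) (fun i => σ (c i)) =
        θ (Fintype.linearCombination ((U₀ : Scheme.{u}).presheaf.stalk p)
          (fun i => ger F p (U := ⊤) trivial (s i)) c) := by
    intro c
    rw [Fintype.linearCombination_apply, Fintype.linearCombination_apply]
    refine Eq.trans ?_ (map_sum θ.hom _ _).symm
    exact Finset.sum_congr rfl fun i _ => ((hθs (c i) _).trans (congrArg (_ • ·)
      (ConcreteCategory.congr_hom (Scheme.Modules.germ_restrictStalkNatIso_hom_app j p E _) _))).symm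
  constructor
  · intro c c' hcc'
    obtain ⟨d, rfl⟩ := hσ.2.comp_left c
    obtain ⟨d', rfl⟩ := hσ.2.comp_left c'
    exact congrArg (σ ∘ ·) ((hs p trivial).1 (hθ.1 ((hkey d).symm.trans (hcc'.trans (hkey d')))))
  · intro b
    obtain ⟨a, rfl⟩ := hθ.2 b
    obtain ⟨c, rfl⟩ := (hs p trivial).2 a
    exact ⟨fun i => σ (c i), hkey c⟩

theorem flat_stalk {E : X.Modules} (hE : FlatMod.IsFinLocFree E) (x : X) :
    Module.Flat (X.presheaf.stalk x) ((DerSch.stalkFunctor X x).obj E) := by
  obtain ⟨U, n, e, hx, he⟩ := exists_frame hE x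
  have := Module.Free.of_basis (he.basis x hx)
  infer_instance

/-! ### Sections of a tensor product with a frame -/

section Phi

variable {E : X.Modules} {n : ℕ} {U : X.Opens} (e : Fin n → Γ(E, U)) (M : X.Modules)

theorem shTm_res {A B : X.Modules} {V W : X.Opens} (h : W ≤ V) (a : Γ(A, V)) (b : Γ(B, V)) :
    res (tens A B) h (shTm a b) = shTm (res A h a) (res B h b) := by
  refine ((PresheafOfModules.naturality_apply
    ((PresheafOfModules.sheafificationAdjunction.{u} (R := X.ringCatSheaf)
      (𝟙 X.ringCatSheaf.obj)).unit.app (pT A B : X.PresheafOfModules)) (homOfLE h).op _).symm).trans ?_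
  exact congrArg (shApp A B W) (rst_tm (P := (DCoh.toP.obj A : PM X.presheaf))
    (Q := (DCoh.toP.obj B : PM X.presheaf)) h a b)

/-- A tuple of sections of `M` as a section of `E ⊗ M`. -/
noncomputable def phi {V : X.Opens} (h : V ≤ U) (m : Fin n → Γ(M, V)) : Γ(tens E M, V) :=
  ∑ i, shTm (res E h (e i)) (m i)

theorem phi_res {V W : X.Opens} (h : V ≤ U) (h' : W ≤ V) (m : Fin n → Γ(M, V)) :
    res (tens E M) h' (phi e M h m) = phi e M (h'.trans h) fun i => res M h' (m i) := by
  refine (map_sum ((tens E M).presheaf.map (homOfLE h').op).hom _ _).trans ?_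
  refine Finset.sum_congr rfl fun i _ => (shTm_res h' _ _).trans (congrArg (shTm · _) ?_)
  exact ConcreteCategory.congr_hom (E.presheaf.map_comp (homOfLE h).op (homOfLE h').op).symm (e i)

/-- The linear combination of tensors on a stalk. -/
noncomputable def stalkPhi (y : X) (hy : y ∈ U) (a : Fin n → (DerSch.stalkFunctor X y).obj M) :
    (DerSch.stalkFunctor X y).obj (tens E M) :=
  stalkTensorLin E M y (∑ i, ger E y hy (e i) ⊗ₜ[X.presheaf.stalk y] a i)

theorem ger_phi {V : X.Opens} (h : V ≤ U) (m : Fin n → Γ(M, V)) (y : X) (hy : y ∈ V) :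
    ger (tens E M) y hy (phi e M h m) = stalkPhi e M y (h hy) fun i => ger M y hy (m i) := by
  refine (map_sum ((tens E M).presheaf.germ V y hy).hom _ _).trans (Eq.symm ?_)
  refine (map_sum (stalkTensorLin E M y) _ _).trans (Finset.sum_congr rfl fun i _ => ?_)
  rw [← ger_res E h y hy (e i)]
  exact stalkTensorLin_germ E M y hy _ _

variable {e}

theorem stalkPhi_bijective (he : IsFrame E e) (y : X) (hy : y ∈ U) :
    Function.Bijective (stalkPhi e M y hy) := by
  let L := (TensorProduct.equivFinsuppOfBasisLeft (he.basis y hy)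
    (N := (DerSch.stalkFunctor X y).obj M)).symm
  have h : stalkPhi e M y hy = stalkTensorLin E M y ∘ L ∘ Finsupp.equivFunOnFinite.symm := by
    funext a
    refine congrArg (stalkTensorLin E M y) (Eq.symm ?_)
    refine (TensorProduct.equivFinsuppOfBasisLeft_symm_apply _ _).trans ?_
    rw [Finsupp.sum_fintype _ _ (fun i => by simp)]
    exact Finset.sum_congr rfl fun i _ => by rw [he.basis_apply]; rfl
  rw [h]
  exact (stalkTensorLin_bijective E M y).comp (L.bijective.comp (Equiv.bijective _))

theorem phi_injective (he : IsFrame E e) {V : X.Opens} (h : V ≤ U) :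
    Function.Injective (phi e M h) := fun m m' hmm' => funext fun i => section_ext _ _ fun y hy => by
  have := congrArg (ger (tens E M) y hy) hmm'
  rw [ger_phi, ger_phi] at this
  exact congr_fun ((stalkPhi_bijective M he y (h hy)).1 this) i

theorem exists_phi_near (he : IsFrame E e) {V : X.Opens} (h : V ≤ U) (t : Γ(tens E M, V)) (y : X)
    (hy : y ∈ V) : ∃ (W : X.Opens) (hW : W ≤ V), y ∈ W ∧
      ∃ m : Fin n → Γ(M, W), phi e M (hW.trans h) m = res (tens E M) hW t := by
  obtain ⟨a, ha⟩ := (stalkPhi_bijective M he y (h hy)).2 (ger (tens E M) y hy t)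
  choose Wi hWi s hs using fun i => exists_ger M y (a i)
  let W₀ : X.Opens := V ⊓ Finset.univ.inf Wi
  have hW₀ : y ∈ W₀ := by
    refine ⟨hy, ?_⟩
    change y ∈ ((Finset.univ.inf Wi : X.Opens) : Set X)
    rw [Opens.coe_finset_inf, Finset.inf_eq_iInf]
    simp only [Function.comp_apply, Set.iInf_eq_iInter, Set.mem_iInter]
    exact fun i _ => hWi i
  have hle : ∀ i, W₀ ≤ Wi i := fun i => inf_le_right.trans (Finset.inf_le (Finset.mem_univ i))
  let m₀ := fun i => res M (hle i) (s i)
  have hg : ger (tens E M) y hW₀ (phi e M (inf_le_left.trans h) m₀) =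
      ger (tens E M) y hW₀ (res (tens E M) inf_le_left t) := by
    rw [ger_phi, ger_res, ← ha]
    exact congrArg _ (funext fun i => by rw [ger_res, hs])
  obtain ⟨W, hyW, iU, iV, hW⟩ := (tens E M).presheaf.germ_eq y hW₀ hW₀ _ _ hg
  obtain rfl : iU = iV := Subsingleton.elim _ _
  refine ⟨W, iU.le.trans inf_le_left, hyW, fun i => res M iU.le (m₀ i), ?_⟩
  rw [← phi_res e M (inf_le_left.trans h) iU.le m₀]
  refine hW.trans ?_
  exact ConcreteCategory.congr_hom ((tens E M).presheaf.map_comp _ _).symm t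

theorem phi_surjective (he : IsFrame E e) {V : X.Opens} (h : V ≤ U) :
    Function.Surjective (phi e M h) := by
  intro t
  choose W hW hyW m hm using fun y : V => exists_phi_near M he h t y.1 y.2
  let S : TopCat.Sheaf AddCommGrpCat.{u} X.toTopCat := (QCohLib.toAbF X).obj M
  have hcov : V ≤ iSup W := fun y hy => Opens.mem_iSup.2 ⟨⟨y, hy⟩, hyW _⟩
  have hglue : ∀ i, ∃ g : Γ(M, V), ∀ y, res M (hW y) g = m y i := by
    intro i
    have hc : ∀ y z, res M (inf_le_left : W y ⊓ W z ≤ W y) (m y i) =
        res M (inf_le_right : W y ⊓ W z ≤ W z) (m z i) := by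
      intro y z
      have key : (fun i => res M (inf_le_left : W y ⊓ W z ≤ W y) (m y i)) =
          fun i => res M (inf_le_right : W y ⊓ W z ≤ W z) (m z i) := by
        apply phi_injective M he ((inf_le_left.trans (hW y)).trans h)
        rw [← phi_res e M ((hW y).trans h) inf_le_left, hm,
          ← phi_res e M ((hW z).trans h) inf_le_right, hm]
        exact (ConcreteCategory.congr_hom ((tens E M).presheaf.map_comp _ _).symm t).trans
          (ConcreteCategory.congr_hom ((tens E M).presheaf.map_comp (homOfLE (hW z)).op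
            (homOfLE (inf_le_right : W y ⊓ W z ≤ W z)).op) t)
      exact congr_fun key i
    obtain ⟨g, hg, -⟩ := TopCat.Sheaf.existsUnique_gluing' S W V (fun y => homOfLE (hW y)) hcov
      (fun y => m y i) hc
    exact ⟨g, hg⟩
  choose g hg using hglue
  refine ⟨g, section_ext _ _ fun y hy => ?_⟩
  rw [← ger_res (tens E M) (hW ⟨y, hy⟩) y (hyW _) (phi e M h g), phi_res]
  simp only [hg]
  rw [hm, ger_res]

theorem phi_bijective (he : IsFrame E e) {V : X.Opens} (h : V ≤ U) :
    Function.Bijective (phi e M h) :=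
  ⟨phi_injective M he h, phi_surjective M he h⟩

end Phi

end ProjFormLib
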