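import Groth.Agent.ProjFormLib.Proj
import Groth.Agent.KFlatLib.FreeOpen

/-!
# Tensoring with a finite locally free module preserves injectives

Every module embeds in a product of injective skyscrapers, and `E ⊗ -` commutes with such products.
-/

set_option autoImplicit false

universe u

open CategoryTheory CategoryTheory.Limits AlgebraicGeometry TopologicalSpace Opposite
open scoped TensorProduct

namespace ProjFormLib

open KFlatLib

variable {X : Scheme.{u}}

theorem app_phi {E : X.Modules} {n : ℕ} {U : X.Opens} (e : Fin n → Γ(E, U)) {M M' : X.Modules}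
    (g : M ⟶ M') {V : X.Opens} (h : V ≤ U) (m : Fin n → Γ(M, V)) :
    ((tF E).map g).app V (phi e M h m) = phi e M' h fun i => g.app V (m i) :=
  (map_sum (((tF E).map g).app V).hom _ _).trans
    (Finset.sum_congr rfl fun i _ => tensorBi_map₂_shTm E g _ (m i))

theorem sections_prod_ext {ι : Type u} (f : ι → X.Modules) {V : X.Opens} (s t : Γ(∏ᶜ f, V))
    (h : ∀ i, (Pi.π f i).app V s = (Pi.π f i).app V t) : s = t := by
  apply (freeUEquiv V (∏ᶜ f)).symm.injective
  refine Pi.hom_ext _ _ fun i => ?_
  apply (freeUEquiv V (f i)).injective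
  rw [freeUEquiv_comp, freeUEquiv_comp, Equiv.apply_symm_apply, Equiv.apply_symm_apply]
  exact h i

theorem exists_section_prod {ι : Type u} (f : ι → X.Modules) {V : X.Opens} (s : ∀ i, Γ(f i, V)) :
    ∃ t : Γ(∏ᶜ f, V), ∀ i, (Pi.π f i).app V t = s i := by
  refine ⟨freeUEquiv V _ (Pi.lift fun i => (freeUEquiv V (f i)).symm (s i)), fun i => ?_⟩
  rw [← freeUEquiv_comp, Pi.lift_π, Equiv.apply_symm_apply]

theorem isIso_piComparison {E : X.Modules} (hE : FlatMod.IsFinLocFree E) {ι : Type u}
    (f : ι → X.Modules) : IsIso (piComparison (tF E) f) := by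
  refine isIso_of_sections _ fun x => ?_
  obtain ⟨U, n, e, hx, he⟩ := exists_frame hE x
  refine ⟨U, hx, fun V hV => ?_⟩
  have hc : ∀ (i : ι) (m : Fin n → Γ(∏ᶜ f, V)),
      (Pi.π (fun i => (tF E).obj (f i)) i).app V ((piComparison (tF E) f).app V (phi e _ hV m)) =
        phi e (f i) hV fun j => (Pi.π f i).app V (m j) := fun i m =>
    (congr($(piComparison_comp_π (tF E) f i).app V (phi e _ hV m))).trans (app_phi e (Pi.π f i) hV m)
  have h₁ := phi_bijective (∏ᶜ f) he hV
  refine (Function.Bijective.of_comp_iff ((piComparison (tF E) f).app V) h₁).1 ⟨fun m m' h => ?_, fun t => ?_⟩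
  · funext j
    refine sections_prod_ext f _ _ fun i => ?_
    exact congr_fun (phi_injective (f i) he hV ((hc i m).symm.trans
      ((congrArg _ h).trans (hc i m')))) j
  · choose m hm using fun i => phi_surjective (f i) he hV
      ((Pi.π (fun i => (tF E).obj (f i)) i).app V t)
    choose m' hm' using fun j => exists_section_prod f (V := V) fun i => m i j
    refine ⟨m', sections_prod_ext _ _ _ fun i => (hc i m').trans (Eq.trans ?_ (hm i))⟩
    exact congrArg _ (funext fun j => hm' j i)

theorem injective_sky (y : X) (J : ModuleCat.{u} (X.presheaf.stalk y)) [Injective J] :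
    Injective (skyObj y J) :=
  @Injective.injective_of_adjoint _ _ _ _ (DerSch.stalkFunctor X y) (skyMod y)
    (preservesMonomorphisms_of_preservesLimitsOfShape _) (skyAdj y) J ‹_›

theorem subsingleton_sky (y : X) (J : ModuleCat.{u} (X.presheaf.stalk y)) {V : X.Opens} (hy : y ∉ V) :
    Subsingleton Γ(skyObj y J, V) :=
  ⟨fun s t => skyObj_ext y J s t fun h => absurd h hy⟩

theorem injective_tens_sky {E : X.Modules} (hE : FlatMod.IsFinLocFree E) (y : X)
    (J : ModuleCat.{u} (X.presheaf.stalk y)) [Injective J] :
    Injective (tens E (skyObj y J)) := by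
  let M := tens E (skyObj y J)
  let T := (DerSch.stalkFunctor X y).obj M
  have hT : Injective T := by
    obtain ⟨U, n, e, hy, he⟩ := exists_frame hE y
    let C := (DerSch.stalkFunctor X y).obj (skyObj y J)
    let P : ModuleCat.{u} (X.presheaf.stalk y) := ModuleCat.of _ (Fin n → C)
    let eL : P ≅ T := (((TensorProduct.equivFinsuppOfBasisLeft (he.basis y hy) (N := C)).trans
      (Finsupp.linearEquivFunOnFinite _ _ _)).symm).toModuleIso ≪≫ stalkTensorIso E (skyObj y J) y
    haveI : Injective C := Injective.of_iso (skyCounit y J).symm ‹_›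
    haveI : Injective P := Injective.of_iso (ModuleCat.piIsoPi fun _ : Fin n => C) inferInstance
    exact Injective.of_iso eL inferInstance
  let η : M ⟶ skyObj y T := skyLift y (𝟙 _)
  have : IsIso η := by
    refine isIso_of_sections _ fun x => ?_
    obtain ⟨U, n, e, hx, he⟩ := exists_frame hE x
    refine ⟨U, hx, fun V hV => ?_⟩
    by_cases hy : y ∈ V
    · have hval : ∀ (A : ModuleCat.{u} (X.presheaf.stalk y)) (s t : Γ(skyObj y A, V)),
          skyVal y hy s = skyVal y hy t → s = t := fun A s t h => skyObj_ext y A s t fun _ => h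
      refine ⟨fun s t h => ?_, fun t => ?_⟩
      · obtain ⟨m, rfl⟩ := phi_surjective (skyObj y J) he hV s
        obtain ⟨m', rfl⟩ := phi_surjective (skyObj y J) he hV t
        have hg : ger M y hy (phi e (skyObj y J) hV m) = ger M y hy (phi e (skyObj y J) hV m') :=
          ((skyLift_app y (𝟙 _) hy _).symm.trans (congrArg (skyVal y hy) h)).trans (skyLift_app y (𝟙 _) hy _)
        rw [ger_phi, ger_phi] at hg
        refine congrArg _ (funext fun j => hval _ _ _ ?_)
        have := congr_fun ((stalkPhi_bijective (skyObj y J) he y (hV hy)).1 hg) j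
        exact (skyCounit_germ y J hy _).symm.trans ((congrArg (skyCounit y J).hom.hom this).trans
          (skyCounit_germ y J hy _))
      · obtain ⟨a, ha⟩ := (stalkPhi_bijective (skyObj y J) he y (hV hy)).2 (skyVal y hy t)
        let m : Fin n → Γ(skyObj y J, V) := fun j => skyMk y fun _ => (skyCounit y J).hom.hom (a j)
        refine ⟨phi e (skyObj y J) hV m, hval _ _ _ ((skyLift_app y (𝟙 _) hy _).trans ?_)⟩
        change ger M y hy (phi e (skyObj y J) hV m) = _
        rw [ger_phi, ← ha]
        refine congrArg _ (funext fun j => ?_)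
        apply (skyCounit y J).toLinearEquiv.injective
        exact skyCounit_germ y J hy (m j)
    · have := subsingleton_sky y J hy
      have := subsingleton_sky y T hy
      have : Subsingleton Γ(M, V) := (phi_surjective (skyObj y J) he hV).subsingleton
      exact ⟨fun _ _ _ => Subsingleton.elim _ _, fun t => ⟨0, Subsingleton.elim _ _⟩⟩
  exact @Injective.of_iso _ _ _ _ (asIso η).symm (@injective_sky X y T hT)

/-- `E ⊗ I` is injective for `I` injective and `E` finite locally free. -/
theorem injective_tens {E : X.Modules} (hE : FlatMod.IsFinLocFree E) (I : X.Modules) [Injective I] :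
    Injective (tens E I) := by
  let St := fun y : X => (DerSch.stalkFunctor X y).obj I
  let f : X → X.Modules := fun y => skyObj y (Injective.under (St y))
  let ι : I ⟶ ∏ᶜ f := Pi.lift fun y => skyLift y (Injective.ι (St y))
  haveI : Mono ι := by
    refine Preadditive.mono_of_cancel_zero _ fun {Z} g hg => ?_
    refine Scheme.Modules.hom_ext _ _ fun V => ?_
    ext s
    refine section_ext _ _ fun y hy => ?_
    have h1 : (g ≫ skyLift y (Injective.ι (St y))) = 0 := by
      rw [← Pi.lift_π (fun y => skyLift y (Injective.ι (St y))) y, ← Category.assoc, hg, zero_comp]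
    have h2 := congr(skyVal y hy ($(h1).app V s))
    have h3 : (Injective.ι (St y)).hom (ger I y hy (g.app V s)) = 0 :=
      ((skyLift_app y (Injective.ι (St y)) hy _).symm.trans h2).trans (map_zero (skyVal y hy))
    have h4 : ger I y hy (g.app V s) = 0 :=
      (ModuleCat.mono_iff_injective (Injective.ι (St y))).1 inferInstance (h3.trans (map_zero _).symm)
    exact h4.trans (map_zero (I.presheaf.germ V y hy).hom).symm
  haveI : ∀ y, Injective ((tF E).obj (f y)) := fun y => injective_tens_sky hE y _
  haveI := isIso_piComparison hE f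
  haveI : Injective ((tF E).obj (∏ᶜ f)) :=
    Injective.of_iso (asIso (piComparison (tF E) f)).symm inferInstance
  let r : Retract I (∏ᶜ f) := ⟨ι, Injective.factorThru (𝟙 I) ι, Injective.comp_factorThru _ _⟩
  exact Retract.injective (r.map (tF E))

end ProjFormLib
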