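import Groth.Agent.ProjFormLib.Projection

/-!
# The projection formula for perfect complexes
-/

set_option autoImplicit false
set_option backward.isDefEq.respectTransparency false
set_option backward.isDefEq.respectTransparency.types false
set_option maxHeartbeats 1000000

universe u

open CategoryTheory CategoryTheory.Limits AlgebraicGeometry HomologicalComplex
open Groth.Agent.DerLib Groth.Agent.PerfDualLib

attribute [local instance] HasDerivedCategory.standard

namespace Groth.Agent.ProjFormLib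

variable {X Y : Scheme.{u}} (f : X ⟶ Y)

theorem pullTensor_natural {A A' F F' : Cx Y} (a : A ⟶ A') (κ : F ⟶ F') :
    mapBifunctorMap ((pullC f).map a) ((pullC f).map κ) (DCoh.tensorBi (X := X)) (ComplexShape.up ℤ) ≫
        (KFlatLib.pullTensorCxIso f A' F').hom =
      (KFlatLib.pullTensorCxIso f A F).hom ≫
        (pullC f).map (mapBifunctorMap a κ (DCoh.tensorBi (X := Y)) (ComplexShape.up ℤ)) :=
  haveI : PreservesColimitsOfSize.{0, 0} (Scheme.Modules.pullback f) :=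
    (Scheme.Modules.pullbackPushforwardAdjunction f).leftAdjoint_preservesColimits
  KFlatLib.totalMapIso_natural (DCoh.tensorBi (X := Y)) (DCoh.tensorBi (X := X))
    (Scheme.Modules.pullback f) (Scheme.Modules.pullback f) (Scheme.Modules.pullback f)
    (fun M N => (asIso (KFlatLib.pullθ f M N)).symm)
    (fun a N => (Iso.comp_inv_eq (asIso (KFlatLib.pullθ f _ N))).mpr
      (((congrArg (_ ≫ ·) (KFlatLib.pullθ_natural_left f a N)).trans
        (Iso.inv_hom_id_assoc (asIso (KFlatLib.pullθ f _ N)) _)).symm.trans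
          (Category.assoc _ _ _).symm))
    (fun M {_ _} b => (Iso.comp_inv_eq (asIso (KFlatLib.pullθ f M _))).mpr
      (((congrArg (_ ≫ ·) (KFlatLib.pullθ_natural_right f M b)).trans
        (Iso.inv_hom_id_assoc (asIso (KFlatLib.pullθ f M _)) _)).symm.trans
          (Category.assoc _ _ _).symm))
    a κ

theorem pullTensor_natural₂ (A : Cx Y) {F F' : Cx Y} (κ : F ⟶ F') :
    mapBifunctorMap (𝟙 ((pullC f).obj A)) ((pullC f).map κ) (DCoh.tensorBi (X := X))
        (ComplexShape.up ℤ) ≫ (KFlatLib.pullTensorCxIso f A F').hom =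
      (KFlatLib.pullTensorCxIso f A F).hom ≫
        (pullC f).map (mapBifunctorMap (𝟙 A) κ (DCoh.tensorBi (X := Y)) (ComplexShape.up ℤ)) := by
  rw [← CategoryTheory.Functor.map_id (pullC f) A]
  exact pullTensor_natural f (𝟙 A) κ

theorem pullTensor_natural₁ {A A' : Cx Y} (a : A ⟶ A') (F : Cx Y) :
    mapBifunctorMap ((pullC f).map a) (𝟙 ((pullC f).obj F)) (DCoh.tensorBi (X := X))
        (ComplexShape.up ℤ) ≫ (KFlatLib.pullTensorCxIso f A' F).hom =
      (KFlatLib.pullTensorCxIso f A F).hom ≫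
        (pullC f).map (mapBifunctorMap a (𝟙 F) (DCoh.tensorBi (X := Y)) (ComplexShape.up ℤ)) := by
  rw [← CategoryTheory.Functor.map_id (pullC f) F]
  exact pullTensor_natural f a (𝟙 F)

variable {A : Cx Y} {I : Cx X} (ψ : A ⟶ (pushC f).obj I)

/-- The projection map. -/
noncomputable def proj (F : Cx Y) :
    Gen.t2 (Tb Y) A F ⟶ (pushC f).obj ((Gen.tL (Tb X) I).obj ((pullC f).obj F)) :=
  projGen (cxAdj f) (Tb Y).map₂CochainComplex (Tb X).map₂CochainComplex
    (KFlatLib.pullTensorCxIso f) ψ F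

theorem proj_natural {F F' : Cx Y} (κ : F ⟶ F') :
    (Gen.tL (Tb Y) A).map κ ≫ proj f ψ F' =
      proj f ψ F ≫ (pushC f).map ((Gen.tL (Tb X) I).map ((pullC f).map κ)) :=
  projGen_natural (cxAdj f) (Tb Y).map₂CochainComplex (Tb X).map₂CochainComplex
    (KFlatLib.pullTensorCxIso f) (fun A _ _ κ => pullTensor_natural₂ f A κ) ψ κ

/-- The projection map is a quasi-isomorphism on `U` after resolving. -/
def GoodOn (U : Y.Opens) (F : Cx Y) : Prop :=
  ∀ x ∈ U, Good (Scheme.Modules.pushforward f) (DerSch.stalkFunctor Y x) (proj f ψ F)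

theorem exists_res (T : Cx X) : ∃ (R : Cx X) (r : T ⟶ R), R.IsKInjective ∧ QuasiIso r := by
  obtain ⟨R, r, hR, hr⟩ := KFlatLib.enoughKInj_modules T
  exact ⟨R, r, hR, hr⟩

theorem qisOn_lift {V : X.Opens} {T T' R R' : Cx X} {r : T ⟶ R} [QuasiIso r] {r' : T' ⟶ R'}
    [QuasiIso r'] {e : R ⟶ R'} {t : T ⟶ T'} (he : Homotopy (r ≫ e) (t ≫ r')) (ht : QisOn V t) :
    QisOn V e := fun z hz => by
  haveI := ht z hz
  haveI : QuasiIso ((KFlatLib.stalkCx X z).map r) := (KFlatLib.quasiIso_iff_stalks r).1 ‹_› z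
  haveI : QuasiIso ((KFlatLib.stalkCx X z).map r') := (KFlatLib.quasiIso_iff_stalks r').1 ‹_› z
  have h1 : QuasiIso ((KFlatLib.stalkCx X z).map (t ≫ r')) := by
    rw [Functor.map_comp]
    infer_instance
  have h2 : QuasiIso ((KFlatLib.stalkCx X z).map (r ≫ e)) :=
    (quasiIso_iff_of_homotopy (DerSch.stalkFunctor X z) he).2 h1
  rw [Functor.map_comp] at h2
  exact quasiIso_of_comp_left ((KFlatLib.stalkCx X z).map r) _

variable (hA : DCoh.IsKFlat A)
include hA

theorem goodOn_iff {U : Y.Opens} {F F' : Cx Y} (hF : DCoh.IsKFlat F) (hF' : DCoh.IsKFlat F')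
    (κ : F ⟶ F') (hκ : QisOn U κ) : GoodOn f ψ U F ↔ GoodOn f ψ U F' := by
  have key : ∀ x ∈ U, (Good (Scheme.Modules.pushforward f) (DerSch.stalkFunctor Y x) (proj f ψ F) ↔
      Good (Scheme.Modules.pushforward f) (DerSch.stalkFunctor Y x) (proj f ψ F')) := fun x hx => by
    haveI := qisOn_tL hA hκ x hx
    exact good_iff_of_square (Scheme.Modules.pushforward f) (DerSch.stalkFunctor Y x) _ _
      ((Gen.tL (Tb Y) A).map κ) ((Gen.tL (Tb X) I).map ((pullC f).map κ)) (proj_natural f ψ κ)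
      exists_res fun R R' r r' e hR hR' hr hr' he =>
        qisOn_push f (qisOn_lift he (qisOn_tL_flat I (KFlatLib.isKFlat_pull f hF)
          (KFlatLib.isKFlat_pull f hF') (qisOn_pull f hF hF' hκ))) x hx
  exact ⟨fun h x hx => (key x hx).1 (h x hx), fun h x hx => (key x hx).2 (h x hx)⟩

/-- The property used for dévissage. -/
def PP (U : Y.Opens) (K : Cx Y) : Prop := GoodOn f ψ U ((KFlatLib.resP Y).obj K)

theorem pp_iff_flat {U : Y.Opens} {K F : Cx Y} (hF : DCoh.IsKFlat F) (q : F ⟶ K) [QuasiIso q] :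
    PP f ψ U K ↔ GoodOn f ψ U F := by
  let F' := (KFlatLib.resP Y).obj F
  haveI : QuasiIso ((KFlatLib.resψ Y).app F) := KFlatLib.quasiIso_resψ _
  haveI : QuasiIso ((KFlatLib.resψ Y).app K) := KFlatLib.quasiIso_resψ _
  haveI : QuasiIso ((KFlatLib.resP Y).map q) := by
    haveI : QuasiIso ((KFlatLib.resP Y).map q ≫ (KFlatLib.resψ Y).app K) := by
      rw [(KFlatLib.resψ Y).naturality q]
      change QuasiIso ((KFlatLib.resψ Y).app F ≫ q)
      exact quasiIso_comp _ _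
    exact quasiIso_of_comp_right ((KFlatLib.resP Y).map q) ((KFlatLib.resψ Y).app K)
  exact (goodOn_iff f ψ hA (KFlatLib.good_resP _).1 (KFlatLib.good_resP _).1
    ((KFlatLib.resP Y).map q) (QisOn.of_quasiIso U _)).symm.trans
      (goodOn_iff f ψ hA (KFlatLib.good_resP _).1 hF ((KFlatLib.resψ Y).app F)
        (QisOn.of_quasiIso U _))

theorem pp_iff {U : Y.Opens} {K K' : Cx Y} (κ : K ⟶ K') (hκ : QisOn U κ) :
    PP f ψ U K ↔ PP f ψ U K' := by
  refine goodOn_iff f ψ hA (KFlatLib.good_resP _).1 (KFlatLib.good_resP _).1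
    ((KFlatLib.resP Y).map κ) fun x hx => ?_
  haveI := hκ x hx
  haveI hq : ∀ C : Cx Y, QuasiIso ((KFlatLib.stalkCx Y x).map ((KFlatLib.resψ Y).app C)) := fun C =>
    (KFlatLib.quasiIso_iff_stalks _).1 (KFlatLib.quasiIso_resψ C) x
  have h := congrArg ((KFlatLib.stalkCx Y x).map) ((KFlatLib.resψ Y).naturality κ)
  rw [Functor.map_comp, Functor.map_comp, Functor.id_map] at h
  haveI : QuasiIso ((KFlatLib.stalkCx Y x).map ((KFlatLib.resP Y).map κ) ≫
      (KFlatLib.stalkCx Y x).map ((KFlatLib.resψ Y).app K')) := by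
    rw [h]
    exact quasiIso_comp _ _
  exact quasiIso_of_comp_right ((KFlatLib.stalkCx Y x).map ((KFlatLib.resP Y).map κ))
    ((KFlatLib.stalkCx Y x).map ((KFlatLib.resψ Y).app K'))

theorem pp_contractible {U : Y.Opens} {W : Cx Y} (hW : Homotopy (𝟙 W) 0) : PP f ψ U W := by
  refine (pp_iff_flat f ψ hA (KFlatLib.isKFlat_contractible hW) (𝟙 W)).2 fun x _ => ?_
  obtain ⟨h1⟩ := Gen.nonempty_contractible_t2 (T := Tb Y) A hW
  let g := pullC f
  obtain ⟨h2⟩ := Gen.nonempty_contractible_t2 (T := Tb X) I (W := g.obj W)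
    ((Homotopy.ofEq (g.map_id W).symm).trans (((Scheme.Modules.pullback f).mapHomotopy hW).trans
      (Homotopy.ofEq (g.map_zero W W))))
  haveI := isKInjective_of_contractible h2
  exact good_of _ _ _ (𝟙 _) (Gen.quasiIso_FC_of_contractible (DerSch.stalkFunctor Y x) h1
    ((Homotopy.ofEq ((pushC f).map_id _).symm).trans
      (((Scheme.Modules.pushforward f).mapHomotopy h2).trans (Homotopy.ofEq ((pushC f).map_zero _ _))))
    _)

theorem pp_three {U : Y.Opens} {S : ShortComplex (Cx Y)} (hS : KFlatLib.DegSplit S) :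
    (PP f ψ U S.X₂ → PP f ψ U S.X₃ → PP f ψ U S.X₁) ∧
    (PP f ψ U S.X₁ → PP f ψ U S.X₃ → PP f ψ U S.X₂) ∧
    (PP f ψ U S.X₁ → PP f ψ U S.X₂ → PP f ψ U S.X₃) := by
  obtain ⟨T, φ, ⟨hT⟩, ⟨k₁, k₂, k₃⟩, q₁, q₂, q₃⟩ := exists_flat_seq hS
  have e₁ := pp_iff_flat f ψ hA (U := U) k₁ φ.τ₁
  have e₂ := pp_iff_flat f ψ hA (U := U) k₂ φ.τ₂
  have e₃ := pp_iff_flat f ψ hA (U := U) k₃ φ.τ₃
  obtain ⟨hH⟩ := Gen.nonempty_degSplit_tL (Tb Y) A hT (Gen.tL_comp_zero (Tb Y) A)
  obtain ⟨hI⟩ := Gen.nonempty_degSplit_tL (Tb X) I (S := T.map (pullC f))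
    (fun n => (hT n).map (Scheme.Modules.pullback f)) (Gen.tL_comp_zero (Tb X) I)
  let a : ShortComplex.mk _ _ (Gen.tL_comp_zero (Tb Y) A (S := T)) ⟶
      (ShortComplex.mk _ _ (Gen.tL_comp_zero (Tb X) I (S := T.map (pullC f)))).map (pushC f) :=
    ⟨proj f ψ T.X₁, proj f ψ T.X₂, proj f ψ T.X₃, (proj_natural f ψ T.f).symm,
      (proj_natural f ψ T.g).symm⟩
  have key := fun x : Y => good_three (Scheme.Modules.pushforward f) (DerSch.stalkFunctor Y x) hH hI a
    exists_res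
  exact ⟨fun h h' => e₁.2 fun x hx => (key x).1 (e₂.1 h x hx) (e₃.1 h' x hx),
    fun h h' => e₂.2 fun x hx => (key x).2.1 (e₁.1 h x hx) (e₃.1 h' x hx),
    fun h h' => e₃.2 fun x hx => (key x).2.2 (e₁.1 h x hx) (e₂.1 h' x hx)⟩

theorem pp_unit [I.IsKInjective] [QuasiIso ψ] {U : Y.Opens} : PP f ψ U (unitCx Y) := by
  have hu := KFlatLib.isKFlat_of_isStrictlyPerfect (isStrictlyPerfect_unitCx Y)
  refine (pp_iff_flat f ψ hA hu (𝟙 (unitCx Y))).2 fun x _ => ?_
  let eu : (pullC f).obj (unitCx Y) ≅ unitCx X :=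
    (singleMapHomologicalComplex (Scheme.Modules.pullback f) (ComplexShape.up ℤ) 0).app
      (Coh.structureModule Y) ≪≫
      (single X.Modules (ComplexShape.up ℤ) 0).mapIso (KFlatLib.pullUnitIso (f := f))
  let es : Gen.tR (Tb X) ((pullC f).obj (unitCx Y)) ≅ 𝟭 (Cx X) :=
    (Tb X).map₂CochainComplex.flip.mapIso eu ≪≫ unitNat
  obtain ⟨d, hd⟩ := exists_projGen_unit (cxAdj f) (Tb Y).map₂CochainComplex
    (Tb X).map₂CochainComplex (KFlatLib.pullTensorCxIso f)
    (fun a F => pullTensor_natural₁ f a F) ψ (U := unitCx Y) unitNat es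
  let r : (Gen.tL (Tb X) I).obj ((pullC f).obj (unitCx Y)) ⟶ I := es.hom.app I
  haveI : QuasiIso r := (inferInstance : QuasiIso (es.app I).hom)
  refine good_of _ _ _ r ?_
  refine (KFlatLib.quasiIso_iff_stalks (proj f ψ (unitCx Y) ≫ (pushC f).map r)).1 ?_ x
  rw [show proj f ψ (unitCx Y) ≫ (pushC f).map r = (unitNat.app A).hom ≫ ψ ≫ d.hom from hd]
  infer_instance

theorem loc_pp [I.IsKInjective] [QuasiIso ψ] (U : Y.Opens) : Loc U (PP f ψ U) where
  qis κ hκ := pp_iff f ψ hA κ hκ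
  contractible hW := pp_contractible f ψ hA hW
  ext₁ hS := (pp_three f ψ hA hS).1
  ext₂ hS := (pp_three f ψ hA hS).2.1
  ext₃ hS := (pp_three f ψ hA hS).2.2
  unit := pp_unit f ψ hA

omit hA

/-- The derived direct image of a K-injective complex. -/
theorem nonempty_push_iso [DCoh.HasRpush f] (J : Cx X) [J.IsKInjective] :
    Nonempty ((DCoh.Rpush f).obj (DerivedCategory.Q.obj J) ≅
      DerivedCategory.Q.obj ((pushC f).obj J)) := by
  haveI := DCohRestrLib.isIso_pushUnit f J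
  exact ⟨(DCoh.Rpush f).mapIso ((DerivedCategory.quotientCompQhIso X.Modules).app J).symm ≪≫
    (asIso ((DCohRestrLib.pushUnit f).app
      ((HomotopyCategory.quotient X.Modules (ComplexShape.up ℤ)).obj J))).symm ≪≫
    (DerivedCategory.quotientCompQhIso Y.Modules).app ((pushC f).obj J)⟩

/-- The projection formula for perfect complexes. -/
theorem nonempty_projection_formula [DCoh.HasRpush f] (P : Cx Y) (hP : DCoh.IsKFlat P)
    (hperf : DCoh.IsPerfect (DerivedCategory.Q.obj P)) [DCoh.HasLTensorCx P]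
    [DCoh.HasLTensorCx ((pullC f).obj P)] (E : DCoh.D X) :
    Nonempty ((DCoh.LTensorCx P).obj ((DCoh.Rpush f).obj E) ≅
      (DCoh.Rpush f).obj ((DCoh.LTensorCx ((pullC f).obj P)).obj E)) := by
  obtain ⟨I, hI, ⟨eE⟩⟩ := KInjUse.exists_iso_Q_kInjective E
  let A := (KFlatLib.resP Y).obj ((pushC f).obj I)
  let ψ : A ⟶ (pushC f).obj I := (KFlatLib.resψ Y).app ((pushC f).obj I)
  haveI hψ : QuasiIso ψ := KFlatLib.quasiIso_resψ _
  have hA : DCoh.IsKFlat A := (KFlatLib.good_resP _).1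
  obtain ⟨R, r, hR, hr⟩ := exists_res ((Gen.tL (Tb X) I).obj ((pullC f).obj P))
  let θ := proj f ψ P ≫ (pushC f).map r
  haveI : QuasiIso θ := (KFlatLib.quasiIso_iff_stalks θ).2 fun x => by
    obtain ⟨U, hx, F, a, b, hv, hf, ⟨e⟩⟩ := exists_free_nbhd hperf x
    have h := (pp_iff_flat f ψ hA hP (𝟙 P)).1 ((loc_pp f ψ hA U).prop_of_iso P F a b hv hf e)
    exact h x hx R hR r hr
  obtain ⟨e₁⟩ := nonempty_push_iso f I
  obtain ⟨e₂⟩ := nonempty_push_iso f R
  haveI := TensorAssocLib.isIso_cnt P hP A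
  haveI := TensorAssocLib.isIso_cnt ((pullC f).obj P) (KFlatLib.isKFlat_pull f hP) I
  exact ⟨(DCoh.LTensorCx P).mapIso ((DCoh.Rpush f).mapIso eE ≪≫ e₁ ≪≫
      (asIso (DerivedCategory.Q.map ψ)).symm) ≪≫
    asIso ((TensorAssocLib.cnt P).app A) ≪≫ asIso (DerivedCategory.Q.map θ) ≪≫ e₂.symm ≪≫
    (DCoh.Rpush f).mapIso ((asIso (DerivedCategory.Q.map r)).symm ≪≫
      (asIso ((TensorAssocLib.cnt ((pullC f).obj P)).app I)).symm ≪≫
      (DCoh.LTensorCx ((pullC f).obj P)).mapIso eE.symm)⟩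

end Groth.Agent.ProjFormLib
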