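import Groth.Agent.ProjFormLib.QCohClass
import Groth.Agent.PerfDualLib.Derived

/-!
# The projection formula for quasi-coherent cohomology
-/

set_option autoImplicit false
set_option backward.isDefEq.respectTransparency false
set_option backward.isDefEq.respectTransparency.types false
set_option maxHeartbeats 1000000
set_option linter.style.haveILetI false

universe u

open CategoryTheory CategoryTheory.Limits AlgebraicGeometry HomologicalComplex
open Groth.Agent.DerLib Groth.Agent.PerfDualLib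

attribute [local instance] HasDerivedCategory.standard

namespace Groth.Agent.ProjFormLib

variable {X Y : Scheme.{u}} (f : X ⟶ Y) [QuasiCompact f] [QuasiSeparated f]

/-- The projection formula for a K-flat complex with quasi-coherent cohomology. -/
theorem nonempty_projection_qcoh [DCoh.HasRpush f] (P : Cx Y) (hP : DCoh.IsKFlat P)
    (hPq : DCoh.IsQCohD (DerivedCategory.Q.obj P)) [DCoh.HasLTensorCx P]
    [DCoh.HasLTensorCx ((pullC f).obj P)] (E : DCoh.D X) (hE : DCoh.IsQCohD E) :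
    Nonempty ((DCoh.LTensorCx P).obj ((DCoh.Rpush f).obj E) ≅
      (DCoh.Rpush f).obj ((DCoh.LTensorCx ((pullC f).obj P)).obj E)) := by
  obtain ⟨I, hI, ⟨eE⟩⟩ := KInjUse.exists_iso_Q_kInjective E
  have hIq : DCoh.IsQCohD (DerivedCategory.Q.obj I) := KFlatLib.isQCohD_iso eE hE
  let A := (KFlatLib.resP Y).obj ((pushC f).obj I)
  let ψ : A ⟶ (pushC f).obj I := (KFlatLib.resψ Y).app ((pushC f).obj I)
  haveI hψ : QuasiIso ψ := KFlatLib.quasiIso_resψ _
  have hA : DCoh.IsKFlat A := (KFlatLib.good_resP _).1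
  obtain ⟨R, r, hR, hr⟩ := exists_res ((Gen.tL (Tb X) I).obj ((pullC f).obj P))
  let θ := proj f ψ P ≫ (pushC f).map r
  haveI : QuasiIso θ := (KFlatLib.quasiIso_iff_stalks θ).2 fun x => by
    obtain ⟨U, hU, hx, -⟩ := AlgebraicGeometry.exists_isAffineOpen_mem_and_subset
      (X := Y) (x := x) (U := ⊤) trivial
    have hU' : DCoh.IsQCohD (DerivedCategory.Q.obj ((rC U).obj P)) :=
      KFlatLib.isQCohD_iso (DerivedCategory.Q.mapIso ((KFlatLib.restrictCxIso U).app P).symm)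
        (isQCohD_pullCx_openImmersion U.ι P hPq)
    exact (pp_iff_flat f ψ hA hP (𝟙 P)).1 (pp_of_qcoh f ψ hA hIq hU P hU') x hx R hR r hr
  obtain ⟨e₁⟩ := nonempty_push_iso f I
  obtain ⟨e₂⟩ := nonempty_push_iso f R
  haveI := TensorAssocLib.isIso_cnt P hP A
  haveI := TensorAssocLib.isIso_cnt ((pullC f).obj P) (KFlatLib.isKFlat_pull f hP) I
  exact ⟨(DCoh.LTensorCx P).mapIso ((DCoh.Rpush f).mapIso eE ≪≫ e₁ ≪≫
      (asIso (DerivedCategory.Q.map ψ)).symm) ≪≫
    asIso ((TensorAssocLib.cnt P).app A) ≪≫ asIso (DerivedCategory.Q.map θ) ≪≫ e₂.symm ≪≫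
    (DCoh.Rpush f).mapIso ((asIso (DerivedCategory.Q.map r)).symm ≪≫
      (asIso ((TensorAssocLib.cnt ((pullC f).obj P)).app I)).symm ≪≫
      (DCoh.LTensorCx ((pullC f).obj P)).mapIso eE.symm)⟩

/-- Complexes isomorphic in the derived category have isomorphic derived tensor functors. -/
theorem nonempty_lTensor_congr_iso {M N : Cx X}
    (e : DerivedCategory.Q.obj M ≅ DerivedCategory.Q.obj N) [DCoh.HasLTensorCx M]
    [DCoh.HasLTensorCx N] : Nonempty (DCoh.LTensorCx M ≅ DCoh.LTensorCx N) := by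
  obtain ⟨Z, s, hs, g, hg⟩ := DerivedCategory.right_fac e.hom
  haveI : QuasiIso s := (DerivedCategory.isIso_Q_map_iff_quasiIso _ s).1 hs
  haveI : IsIso (DerivedCategory.Q.map g) := by
    have : DerivedCategory.Q.map g = DerivedCategory.Q.map s ≫ e.hom := by
      rw [hg, IsIso.hom_inv_id_assoc]
    rw [this]
    infer_instance
  haveI : QuasiIso g := (DerivedCategory.isIso_Q_map_iff_quasiIso _ g).1 ‹_›
  haveI := KFlatLib.hasLTensorCx Z
  obtain ⟨a⟩ := nonempty_lTensor_congr s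
  obtain ⟨b⟩ := nonempty_lTensor_congr g
  exact ⟨a.symm ≪≫ b⟩

/-- The projection formula in `D_QCoh`. -/
theorem nonempty_projection_DQCoh [DCoh.HasRpush f] [DCoh.HasLpull f]
    (E : DCoh.D X) (hE : DCoh.IsQCohD E) (K : Cx Y) (hK : DCoh.IsQCohD (DCoh.toD Y K))
    [DCoh.HasLTensorCx K] (M : Cx X)
    (hM : Nonempty (DCoh.toD X M ≅ (DCoh.Lpull f).obj (DCoh.toD Y K))) [DCoh.HasLTensorCx M] :
    Nonempty ((DCoh.LTensorCx K).obj ((DCoh.Rpush f).obj E) ≅
      (DCoh.Rpush f).obj ((DCoh.LTensorCx M).obj E)) := by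
  let P := (KFlatLib.resP Y).obj K
  let q : P ⟶ K := (KFlatLib.resψ Y).app K
  haveI : QuasiIso q := KFlatLib.quasiIso_resψ K
  have hP : DCoh.IsKFlat P := (KFlatLib.good_resP K).1
  let eP : DCoh.toD Y P ≅ DCoh.toD Y K := asIso (DerivedCategory.Q.map q)
  haveI := KFlatLib.hasLTensorCx P
  haveI := KFlatLib.hasLTensorCx ((pullC f).obj P)
  obtain ⟨c⟩ := nonempty_projection_qcoh f P hP (KFlatLib.isQCohD_iso eP.symm hK) E hE
  obtain ⟨a⟩ := nonempty_lTensor_congr q
  obtain ⟨m⟩ := hM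
  obtain ⟨b⟩ := nonempty_lTensor_congr_iso
    (m ≪≫ (DCoh.Lpull f).mapIso eP.symm ≪≫ KFlatLib.lpullObjIso f P hP)
  exact ⟨a.symm.app _ ≪≫ c ≪≫ (DCoh.Rpush f).mapIso (b.symm.app E)⟩

end Groth.Agent.ProjFormLib
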