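import Groth.Agent.DRingLib.ResolProps
import Groth.Agent.PerfDualLib.Homotopy
import Groth.Agent.DerCompLib.TeleMono
import Mathlib.Algebra.Homology.GrothendieckAbelian
import Mathlib.Algebra.Category.ModuleCat.AB

/-!
# A property of complexes of modules which holds for all of them

A property which respects quasi-isomorphisms and degreewise split sequences, is closed under
coproducts and holds for `R` in each degree, holds for every complex.
-/

set_option autoImplicit false
set_option backward.isDefEq.respectTransparency false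
set_option linter.style.haveILetI false

universe u v w

open CategoryTheory CategoryTheory.Limits HomologicalComplex
open CategoryTheory.Limits.CoproductsFromFiniteFiltered
open Groth.Agent.PerfDualLib

namespace Groth.Agent.ProjFormLib

section Tele

variable {A : Type w} [Category.{v} A] [Abelian A] [IsGrothendieckAbelian.{v} A] (S : ℕ ⥤ A)
  [HasCoproduct S.obj]

/-- The telescope map of a sequence. -/
noncomputable def tele : ∐ S.obj ⟶ ∐ S.obj :=
  Sigma.desc fun i => Sigma.ι S.obj i - S.map (homOfLE (Nat.le_add_right i 1)) ≫ Sigma.ι S.obj (i + 1)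

@[reassoc]
theorem ι_tele (i : ℕ) : Sigma.ι S.obj i ≫ tele S =
    Sigma.ι S.obj i - S.map (homOfLE (Nat.le_add_right i 1)) ≫ Sigma.ι S.obj (i + 1) :=
  Sigma.ι_desc _ _

theorem mono_tele : Mono (tele S) := by
  classical
  refine DerCompLib.mono_sigma_desc S.obj (tele S) fun T => ?_
  let r : (∐ S.obj) ⟶ ∐ fun x : T => S.obj x.1.as := Sigma.desc fun i =>
    ∑ j : T, if h : i ≤ j.1.as then S.map (homOfLE h) ≫ Sigma.ι (fun x : T => S.obj x.1.as) j else 0
  refine (SplitMono.mono (f := (finiteSubcoproductsCocone S.obj).ι.app T ≫ tele S) ⟨r, ?_⟩)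
  refine Limits.Sigma.hom_ext _ _ fun s => ?_
  change Sigma.ι (fun x : T => S.obj x.1.as) s ≫ ((Sigma.desc fun t : T => Sigma.ι S.obj t.1.as) ≫
    tele S) ≫ r = _ ≫ 𝟙 _
  rw [Category.comp_id, Category.assoc, Sigma.ι_desc_assoc, ι_tele_assoc,
    Preadditive.sub_comp, Category.assoc]
  simp only [r, Sigma.ι_desc, Preadditive.comp_sum]
  rw [← Finset.sum_sub_distrib, Finset.sum_eq_single s]
  · rw [dif_pos le_rfl, dif_neg (by omega), comp_zero, sub_zero,
      Subsingleton.elim (homOfLE _) (𝟙 s.1.as), CategoryTheory.Functor.map_id]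
    exact Category.id_comp _
  · intro j _ hj
    have hne : j.1.as ≠ s.1.as := fun h => hj (Subtype.ext (Discrete.ext h))
    rcases lt_or_gt_of_ne hne with h | h
    · rw [dif_neg (by omega), dif_neg (by omega), comp_zero, sub_zero]
    · rw [dif_pos h.le, dif_pos (by omega), sub_eq_zero, ← Category.assoc, ← Functor.map_comp,
        homOfLE_comp]
  · simp

variable {S}

theorem tele_desc (c : Cocone S) : tele S ≫ Sigma.desc c.ι.app = 0 := by
  refine Sigma.hom_ext _ _ fun i => ?_
  rw [ι_tele_assoc, Preadditive.sub_comp, Category.assoc, Sigma.ι_desc, Sigma.ι_desc, c.w,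
    sub_self, comp_zero]

/-- The telescope sequence of a colimit. -/
theorem shortExact_tele (c : Cocone S) (hc : IsColimit c) :
    (ShortComplex.mk (tele S) (Sigma.desc c.ι.app) (tele_desc c)).ShortExact := by
  let mkC : ∀ {Z : A} (k : ∐ S.obj ⟶ Z), tele S ≫ k = 0 → Cocone S := fun {Z} k hk =>
    { pt := Z
      ι := NatTrans.ofSequence (fun i => Sigma.ι S.obj i ≫ k) fun i => by
        have h := congrArg (Sigma.ι S.obj i ≫ ·) hk
        simp only [ι_tele_assoc, Preadditive.sub_comp, Category.assoc, comp_zero, sub_eq_zero] at h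
        exact h.symm.trans (Category.comp_id _).symm }
  have hcok : IsColimit (CokernelCofork.ofπ (Sigma.desc c.ι.app) (tele_desc c)) :=
    CokernelCofork.IsColimit.ofπ _ _ (fun k hk => hc.desc (mkC k hk))
      (fun k hk => Sigma.hom_ext _ _ fun i => by
        rw [Sigma.ι_desc_assoc]
        exact hc.fac (mkC k hk) i)
      (fun k hk m hm => hc.hom_ext fun i => by
        rw [hc.fac]
        exact (Sigma.ι_desc_assoc _ _ _).symm.trans (congrArg (Sigma.ι S.obj i ≫ ·) hm))
  exact
    { exact := ShortComplex.exact_of_g_is_cokernel _ hcok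
      mono_f := mono_tele S
      epi_g := Cofork.IsColimit.epi hcok }

end Tele

variable {R : Type u} [CommRing R]

/-- `R` in degree `n`. -/
noncomputable abbrev oneCx (R : Type u) [CommRing R] (n : ℤ) :
    CochainComplex (ModuleCat.{u} R) ℤ :=
  (single (ModuleCat.{u} R) (ComplexShape.up ℤ) n).obj (ModuleCat.of R R)

/-- The properties needed. -/
structure DevRing (D : CochainComplex (ModuleCat.{u} R) ℤ → Prop) : Prop where
  qis : ∀ {K K' : CochainComplex (ModuleCat.{u} R) ℤ} (κ : K ⟶ K'), QuasiIso κ → (D K ↔ D K')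
  contractible : ∀ {W : CochainComplex (ModuleCat.{u} R) ℤ}, Homotopy (𝟙 W) 0 → D W
  ext₂ : ∀ {S : ShortComplex (CochainComplex (ModuleCat.{u} R) ℤ)}, KFlatLib.DegSplit S →
    D S.X₁ → D S.X₃ → D S.X₂
  ext₃ : ∀ {S : ShortComplex (CochainComplex (ModuleCat.{u} R) ℤ)}, KFlatLib.DegSplit S →
    D S.X₁ → D S.X₂ → D S.X₃
  sigma : ∀ {ι : Type u} (K : ι → CochainComplex (ModuleCat.{u} R) ℤ), (∀ i, D (K i)) → D (∐ K)
  one : ∀ n : ℤ, D (oneCx R n)

variable {D : CochainComplex (ModuleCat.{u} R) ℤ → Prop}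

/-- Complexes of free modules with zero differential. -/
theorem DevRing.of_d_eq_zero (h : DevRing D) (C : CochainComplex (ModuleCat.{u} R) ℤ)
    (hd : ∀ p q, C.d p q = 0) (hf : ∀ n, ∃ T : Type u, Nonempty ((ModuleCat.free R).obj T ≅ C.X n)) :
    D C := by
  choose T hT using hf
  let e := fun n => (hT n).some
  let J := Σ n : ULift.{u} ℤ, T n.down
  let F : J → CochainComplex (ModuleCat.{u} R) ℤ := fun j => oneCx R j.1.down
  let g : ∀ j : J, F j ⟶ C := fun j => mkHomFromSingle
    (ModuleCat.ofHom (LinearMap.toSpanSingleton R _ ((e j.1.down).hom (ModuleCat.freeMk j.2))))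
    (fun k _ => by rw [hd, comp_zero])
  let s : ∀ {Z : CochainComplex (ModuleCat.{u} R) ℤ}, (∀ j : J, F j ⟶ Z) → ∀ n, T n → Z.X n :=
    fun a n t => ((singleObjXSelf (ComplexShape.up ℤ) n (ModuleCat.of R R)).inv ≫
      (a ⟨⟨n⟩, t⟩).f n).hom (1 : R)
  have hs : ∀ {Z : CochainComplex (ModuleCat.{u} R) ℤ} (a : ∀ j : J, F j ⟶ Z) (n : ℤ) (t : T n)
      (k : ℤ), (Z.d n k).hom (s a n t) = 0 := fun a n t k => by
    have hc := (a ⟨⟨n⟩, t⟩).comm n k
    simp only [F, single_obj_d, zero_comp] at hc
    have := congrArg (fun m => (singleObjXSelf (ComplexShape.up ℤ) n (ModuleCat.of R R)).inv ≫ m) hc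
    simp only [comp_zero, ← Category.assoc] at this
    exact congr($(this).hom (1 : R))
  let desc : ∀ c : Cofan F, C ⟶ c.pt := fun c =>
    { f := fun n => (e n).inv ≫ ModuleCat.freeDesc (↾fun t => s c.inj n t)
      comm' := fun p q _ => by
        rw [hd, zero_comp, Category.assoc]
        exact (congrArg ((e p).inv ≫ ·) (ModuleCat.free_hom_ext (g := 0) fun t => by
          simpa using hs c.inj p t q)).trans comp_zero }
  have hcol : IsColimit (Cofan.mk C g) := Cofan.IsColimit.mk _ desc
    (fun c j => by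
      obtain ⟨⟨n⟩, t⟩ := j
      refine from_single_hom_ext ?_
      rw [← cancel_epi (singleObjXSelf (ComplexShape.up ℤ) n (ModuleCat.of R R)).inv]
      refine ModuleCat.hom_ext (LinearMap.ext_ring ?_)
      simp [g, desc, s, mkHomFromSingle_f])
    (fun c m hm => by
      refine HomologicalComplex.hom_ext _ _ fun n => ?_
      rw [← cancel_epi (e n).hom]
      refine ModuleCat.free_hom_ext fun t => ?_
      have := congr(((singleObjXSelf (ComplexShape.up ℤ) n (ModuleCat.of R R)).inv ≫
        Hom.f $(hm ⟨⟨n⟩, t⟩) n).hom (1 : R))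
      simpa [g, desc, s, mkHomFromSingle_f] using this)
  exact (h.qis ((coproductIsCoproduct F).coconePointUniqueUpToIso hcol).hom inferInstance).1
    (h.sigma F fun _ => h.one _)

/-- Sequential colimits. -/
theorem DevRing.colim (h : DevRing D) (S : ℕ ⥤ CochainComplex (ModuleCat.{u} R) ℤ) (c : Cocone S)
    (hc : IsColimit c) (hS : ∀ i, D (S.obj i)) : D c.pt := by
  haveI : IsGrothendieckAbelian.{u} (CochainComplex (ModuleCat.{u} R) ℤ) := inferInstance
  have hsum : D (∐ S.obj) := by
    let F : ULift.{u} ℕ → CochainComplex (ModuleCat.{u} R) ℤ := fun i => S.obj i.down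
    exact (h.qis (Sigma.whiskerEquiv (f := F) (g := S.obj) Equiv.ulift
      fun _ => Iso.refl _).hom inferInstance).1 (h.sigma F fun i => hS i.down)
  obtain ⟨W, Q, i, p, hip, ⟨hW⟩, ⟨hT⟩, hi⟩ := exists_degSplit_factor (tele S)
  have hW₂ : D (W ⊞ ∐ S.obj) := by
    have hsp : KFlatLib.DegSplit
        (ShortComplex.mk (biprod.inl : W ⟶ W ⊞ ∐ S.obj) biprod.snd biprod.inl_snd) := fun n =>
      ShortComplex.Splitting.map
        { r := biprod.fst, s := biprod.inr, f_r := biprod.inl_fst, s_g := biprod.inr_snd,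
          id := biprod.total } (eval _ (ComplexShape.up ℤ) n)
    exact h.ext₂ hsp (h.contractible hW) hsum
  have hQ : D Q := h.ext₃ hT hsum hW₂
  have hq : QuasiIso (biprod.snd : W ⊞ ∐ S.obj ⟶ ∐ S.obj) := KFlatLib.quasiIso_g_of_acyclic
    (S := ShortComplex.mk (biprod.inl : W ⟶ W ⊞ ∐ S.obj) biprod.snd biprod.inl_snd)
    (KFlatLib.shortExact_of_degSplit fun n => ShortComplex.Splitting.map
      { r := biprod.fst, s := biprod.inr, f_r := biprod.inl_fst, s_g := biprod.inr_snd,
        id := biprod.total } (eval _ (ComplexShape.up ℤ) n))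
    (KFlatLib.isZero_homology_of_contractible hW)
  have hTs := KFlatLib.shortExact_of_degSplit hT
  haveI := hTs.epi_g
  obtain ⟨τ, hτ⟩ := CokernelCofork.IsColimit.desc' hTs.gIsCokernel
    ((biprod.snd : W ⊞ ∐ S.obj ⟶ ∐ S.obj) ≫ Sigma.desc c.ι.app)
    (by rw [reassoc_of% hi, tele_desc])
  let φ : ShortComplex.mk i p hip ⟶ ShortComplex.mk (tele S) (Sigma.desc c.ι.app) (tele_desc c) :=
    ⟨𝟙 _, biprod.snd, τ, by simpa using hi.symm, hτ.symm⟩
  exact (h.qis τ (HomologicalComplex.HomologySequence.quasiIso_τ₃ φ hTs (shortExact_tele c hc)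
    (by change QuasiIso (𝟙 _); infer_instance) hq)).1 hQ

open DRingLib in
theorem DevRing.stg (h : DevRing D) (G : CochainComplex (ModuleCat.{u} R) ℤ) :
    ∀ k, D ((DRingLib.stg k).P.obj G)
  | 0 => h.contractible (KFlatLib.coneIdContractible (baseObj G))
  | k + 1 => h.ext₂
      (S := CochainComplex.mappingCone.triangleRotateShortComplex (stepφ (DRingLib.stg k) G))
      (CochainComplex.mappingCone.triangleRotateShortComplexSplitting _)
      (DevRing.stg h G k)
      (h.of_d_eq_zero _
        (fun p q => by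
          change (1 : ℤ).negOnePow • (0 : _ ⟶ _) = 0
          exact smul_zero _)
        fun n => ⟨_, ⟨Iso.refl _⟩⟩)

/-- The property holds for every complex. -/
theorem DevRing.all (h : DevRing D) (K : CochainComplex (ModuleCat.{u} R) ℤ) : D K :=
  (h.qis ((DRingLib.resψ R).app K) (DRingLib.quasiIso_resψ K)).1
    (h.colim (DRingLib.towerAt K) (DRingLib.resCocone K)
      (isColimitOfPreserves ((evaluation _ _).obj K) (colimit.isColimit _)) fun k => h.stg K k)

end Groth.Agent.ProjFormLib
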