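import Groth.Agent.ProjFormLib.Coprod
import Groth.Agent.ProjFormLib.DevRing
import Groth.Agent.KFlatLib.QCohTensor
import Groth.Agent.KFlatLib.PerfectPull
import Groth.Agent.TildeDerLib.Affine
import Groth.Agent.S9498

/-!
# The projection map is a quasi-isomorphism for quasi-coherent cohomology
-/

set_option autoImplicit false
set_option backward.isDefEq.respectTransparency false
set_option backward.isDefEq.respectTransparency.types false
set_option maxHeartbeats 1000000
set_option linter.style.haveILetI false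

universe u

open CategoryTheory CategoryTheory.Limits AlgebraicGeometry HomologicalComplex
open Groth.Agent.DerLib Groth.Agent.PerfDualLib

attribute [local instance] HasDerivedCategory.standard

namespace Groth.Agent.ProjFormLib

theorem preservesFiniteLimits_tilde (R : CommRingCat.{u}) :
    PreservesFiniteLimits (tilde.functor R) :=
  (Groth.Agent.S9498.result R).1

attribute [instance] preservesFiniteLimits_tilde

theorem isQCohD_of_homology {X : Scheme.{u}} (C : Cx X) (h : ∀ i, Coh.IsQCoh (C.homology i)) :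
    DCoh.IsQCohD (DerivedCategory.Q.obj C) := fun i =>
  @QCohLib.isQCoh_of_iso _ _ _ (KFlatLib.hdToD _ i).symm (h i)

theorem isQCohD_pullCx_openImmersion {X Y : Scheme.{u}} (j : X ⟶ Y) [IsOpenImmersion j] (C : Cx Y)
    (h : DCoh.IsQCohD (DerivedCategory.Q.obj C)) :
    DCoh.IsQCohD (DerivedCategory.Q.obj ((KFlatLib.pullCx j).obj C)) :=
  isQCohD_of_homology _ fun i =>
    @QCohLib.isQCoh_of_iso _ _ _
      (((Scheme.Modules.restrictFunctorIsoPullback j).app (C.homology i)) ≪≫
        ((C.sc i).mapHomologyIso (Scheme.Modules.pullback j)).symm)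
      (@Scheme.Modules.isQuasicoherent_restrictFunctor _ _ j _ _
        (@QCohLib.isQCoh_of_iso _ _ _ (KFlatLib.hdToD _ i) (h i)))

section Tensor

variable {X Y : Scheme.{u}} (f : X ⟶ Y)

/-- `I ⊗ f^* F` has quasi-coherent cohomology over `U` if `F` has. -/
theorem isQCohD_rC_tensor_pull (U : Y.Opens) (I : Cx X) (hI : DCoh.IsQCohD (DerivedCategory.Q.obj I))
    (F : Cx Y) (hF : DCoh.IsKFlat F) (hq : DCoh.IsQCohD (DerivedCategory.Q.obj ((rC U).obj F))) :
    DCoh.IsQCohD (DerivedCategory.Q.obj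
      ((rC (f ⁻¹ᵁ U)).obj ((Gen.tL (Tb X) I).obj ((pullC f).obj F)))) := by
  let V := f ⁻¹ᵁ U
  let g := f ∣_ U
  let G := (KFlatLib.pullCx V.ι).obj ((pullC f).obj F)
  let F' := (KFlatLib.pullCx U.ι).obj F
  let I' := (KFlatLib.pullCx V.ι).obj I
  have hF' : DCoh.IsKFlat F' := KFlatLib.isKFlat_pull U.ι hF
  have hG : DCoh.IsKFlat G := KFlatLib.isKFlat_pull V.ι (KFlatLib.isKFlat_pull f hF)
  have hF'q : DCoh.IsQCohD (DerivedCategory.Q.obj F') :=
    KFlatLib.isQCohD_iso (DerivedCategory.Q.mapIso ((KFlatLib.restrictCxIso U).app F)) hq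
  haveI := KFlatLib.hasLpull g
  have hgF : DCoh.IsQCohD (DerivedCategory.Q.obj ((KFlatLib.pullCx g).obj F')) :=
    KFlatLib.isQCohD_iso (KFlatLib.lpullObjIso g F' hF')
      (KFlatLib.isQCohD_lpull g _ hF'q)
  let e : (KFlatLib.pullCx g).obj F' ≅ G :=
    (NatIso.mapHomologicalComplex (Scheme.Modules.pullbackComp g U.ι ≪≫
      Scheme.Modules.pullbackCongr (morphismRestrict_ι f U) ≪≫
      (Scheme.Modules.pullbackComp V.ι f).symm) (ComplexShape.up ℤ)).app F
  have hGq : DCoh.IsQCohD (DerivedCategory.Q.obj G) :=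
    KFlatLib.isQCohD_iso (DerivedCategory.Q.mapIso e) hgF
  have hI'q : DCoh.IsQCohD (DerivedCategory.Q.obj I') := isQCohD_pullCx_openImmersion V.ι I hI
  let q : (KFlatLib.resP _).obj I' ⟶ I' := (KFlatLib.resψ _).app I'
  haveI : QuasiIso q := KFlatLib.quasiIso_resψ I'
  haveI := KFlatLib.quasiIso_tensor_left (K := G) hG q
  let eI : DerivedCategory.Q.obj (KFlatLib.tCx G ((KFlatLib.resP _).obj I')) ≅
      DerivedCategory.Q.obj (KFlatLib.tCx G I') :=
    @asIso _ _ _ _ (DerivedCategory.Q.map (((DCoh.tensorCx (X := _)).obj G).map q))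
      ((DerivedCategory.isIso_Q_map_iff_quasiIso _ _).mpr ‹_›)
  have h1 : KFlatLib.TQ I' G := KFlatLib.tq_swap (KFlatLib.isQCohD_iso eI
    (KFlatLib.tq_all G _ hG (KFlatLib.good_resP I').1 hGq
      (KFlatLib.isQCohD_iso (asIso (DerivedCategory.Q.map q)).symm hI'q)))
  exact KFlatLib.isQCohD_iso (DerivedCategory.Q.mapIso
    (KFlatLib.pullTensorCxIso V.ι I ((pullC f).obj F) ≪≫
      ((KFlatLib.restrictCxIso V).app _).symm)) h1

end Tensor

section Affine

variable {Y : Scheme.{u}} {U : Y.Opens} (hU : IsAffineOpen U)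

/-- Modules over `Γ(Y, U)` as modules on `U`. -/
noncomputable abbrev toU : CochainComplex (ModuleCat.{u} Γ(Y, U)) ℤ ⥤ Cx (U : Scheme.{u}) :=
  (tilde.functor Γ(Y, U)).mapHomologicalComplex (ComplexShape.up ℤ) ⋙
    KFlatLib.pullCx hU.isoSpec.hom

/-- Modules over `Γ(Y, U)` as modules on `Y`, extended by zero. -/
noncomputable abbrev toY : CochainComplex (ModuleCat.{u} Γ(Y, U)) ℤ ⥤ Cx Y := toU hU ⋙ jC U

instance preservesColimits_toY (ι : Type u) : PreservesColimitsOfShape (Discrete ι) (toY hU) := by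
  haveI : PreservesColimitsOfShape (Discrete ι)
      ((tilde.functor Γ(Y, U)).mapHomologicalComplex (ComplexShape.up ℤ)) :=
    (KInjDerived.mapHomologicalComplexAdj (TildeDerLib.adjT Γ(Y, U))
      (ComplexShape.up ℤ)).leftAdjoint_preservesColimits.preservesColimitsOfShape
  haveI : PreservesColimitsOfShape (Discrete ι) (KFlatLib.pullCx hU.isoSpec.hom) :=
    (cxAdj hU.isoSpec.hom).leftAdjoint_preservesColimits.preservesColimitsOfShape
  haveI : PreservesColimitsOfShape (Discrete ι) (jC U) :=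
    (cadj U).leftAdjoint_preservesColimits.preservesColimitsOfShape
  exact comp_preservesColimitsOfShape _ _

theorem quasiIso_toU {C C' : CochainComplex (ModuleCat.{u} Γ(Y, U)) ℤ} (κ : C ⟶ C') [QuasiIso κ] :
    QuasiIso ((toU hU).map κ) := by
  haveI : QuasiIso (((tilde.functor Γ(Y, U)).mapHomologicalComplex (ComplexShape.up ℤ)).map κ) :=
    inferInstance
  exact inferInstanceAs (QuasiIso ((KFlatLib.pullCx hU.isoSpec.hom).map
    (((tilde.functor Γ(Y, U)).mapHomologicalComplex (ComplexShape.up ℤ)).map κ)))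

theorem quasiIso_toY {C C' : CochainComplex (ModuleCat.{u} Γ(Y, U)) ℤ} (κ : C ⟶ C') [QuasiIso κ] :
    QuasiIso ((toY hU).map κ) := by
  haveI := PerfCompLib.preservesFiniteLimits_extZero U
  haveI := quasiIso_toU hU κ
  exact inferInstanceAs (QuasiIso ((jC U).map ((toU hU).map κ)))

theorem isQCohD_toU (C : CochainComplex (ModuleCat.{u} Γ(Y, U)) ℤ) :
    DCoh.IsQCohD (DerivedCategory.Q.obj ((toU hU).obj C)) :=
  isQCohD_pullCx_openImmersion _ _ (isQCohD_of_homology _
    (KFlatLib.isQCoh_homology_of_terms _ fun i => by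
      change Coh.IsQCoh (tilde (C.X i))
      infer_instance))

/-- `Γ(Y, U)` in degree `n` goes to the structure sheaf in degree `n`. -/
noncomputable def toUOneIso (n : ℤ) : (toU hU).obj (oneCx Γ(Y, U) n) ≅
    (single _ (ComplexShape.up ℤ) n).obj (Coh.structureModule (U : Scheme.{u})) :=
  (KFlatLib.pullCx hU.isoSpec.hom).mapIso
      ((singleMapHomologicalComplex (tilde.functor Γ(Y, U)) (ComplexShape.up ℤ) n).app _ ≪≫
        (single _ (ComplexShape.up ℤ) n).mapIso AlgebraicGeometry.tildeSelf) ≪≫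
    (singleMapHomologicalComplex (Scheme.Modules.pullback hU.isoSpec.hom)
      (ComplexShape.up ℤ) n).app _ ≪≫
    (single _ (ComplexShape.up ℤ) n).mapIso (KFlatLib.pullUnitIso (f := hU.isoSpec.hom))

/-- A complex with quasi-coherent cohomology on an affine open is induced by modules. -/
theorem exists_toU_iso (K : Cx (U : Scheme.{u})) (hK : DCoh.IsQCohD (DerivedCategory.Q.obj K)) :
    ∃ C, Nonempty (DerivedCategory.Q.obj ((toU hU).obj C) ≅ DerivedCategory.Q.obj K) := by
  obtain ⟨M, ⟨e⟩⟩ := (TildeDerLib.isQCohD_iff Γ(Y, U)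
    (DerivedCategory.Q.obj ((KFlatLib.pullCx hU.isoSpec.inv).obj K))).1
      (isQCohD_pullCx_openImmersion _ K hK)
  let C := DerivedCategory.Q.objPreimage M
  let e' : DerivedCategory.Q.obj (((tilde.functor Γ(Y, U)).mapHomologicalComplex
      (ComplexShape.up ℤ)).obj C) ≅
        DerivedCategory.Q.obj ((KFlatLib.pullCx hU.isoSpec.inv).obj K) :=
    ((tilde.functor Γ(Y, U)).mapDerivedCategoryFactors.app C).symm ≪≫
      (DCoh.tildeD Γ(Y, U)).mapIso (DerivedCategory.Q.objObjPreimageIso M) ≪≫ e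
  let c : (KFlatLib.pullCx hU.isoSpec.hom).obj ((KFlatLib.pullCx hU.isoSpec.inv).obj K) ≅ K :=
    (NatIso.mapHomologicalComplex
      (Scheme.Modules.pullbackComp hU.isoSpec.hom hU.isoSpec.inv ≪≫
        Scheme.Modules.pullbackCongr hU.isoSpec.hom_inv_id ≪≫
        Scheme.Modules.pullbackId _) (ComplexShape.up ℤ)).app K ≪≫
      (Functor.mapHomologicalComplexIdIso _ _).app K
  exact ⟨C, ⟨KFlatLib.exactPullQIso hU.isoSpec.hom e' ≪≫ DerivedCategory.Q.mapIso c⟩⟩

end Affine

section Main

variable {X Y : Scheme.{u}} (f : X ⟶ Y) [QuasiCompact f] [QuasiSeparated f] {A : Cx Y} {I : Cx X}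
  [I.IsKInjective] (ψ : A ⟶ (pushC f).obj I) [QuasiIso ψ]

/-- The class of complexes of modules whose extension satisfies the projection formula. -/
theorem devRing_pp (hA : DCoh.IsKFlat A) (hI : DCoh.IsQCohD (DerivedCategory.Q.obj I)) {U : Y.Opens}
    (hU : IsAffineOpen U) : DevRing fun C => PP f ψ U ((toY hU).obj C) := by
  have hL := loc_pp f ψ hA U
  refine ⟨fun κ hκ => ?_, fun hW => ?_, fun {S} hS => ?_, fun {S} hS => ?_, fun {ι} K hK => ?_,
    fun n => ?_⟩
  · haveI := hκ
    haveI := quasiIso_toY hU κ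
    exact hL.qis _ (QisOn.of_quasiIso U ((toY hU).map κ))
  · refine hL.prop_jC_contractible ((Homotopy.ofEq ((toU hU).map_id _).symm).trans
      (((Scheme.Modules.pullback hU.isoSpec.hom).mapHomotopy
        ((tilde.functor Γ(Y, U)).mapHomotopy hW)).trans (Homotopy.ofEq ((toU hU).map_zero _ _))))
  · exact hL.ext₂ (S := S.map (toY hU))
      (fun i => (((hS i).map (tilde.functor Γ(Y, U))).map
        (Scheme.Modules.pullback hU.isoSpec.hom)).map (CxOX.extZero U.ι))
  · exact hL.ext₃ (S := S.map (toY hU))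
      (fun i => (((hS i).map (tilde.functor Γ(Y, U))).map
        (Scheme.Modules.pullback hU.isoSpec.hom)).map (CxOX.extZero U.ι))
  · refine (hL.qis (PreservesCoproduct.iso (toY hU) K).hom (QisOn.of_quasiIso U _)).2
      (pp_sigma f ψ hA U (fun i => (toY hU).obj (K i)) hK fun i => ?_)
    refine isQCohD_rC_tensor_pull f U I hI _ (KFlatLib.good_resP _).1 ?_
    haveI : QuasiIso ((KFlatLib.resψ Y).app ((toY hU).obj (K i))) := KFlatLib.quasiIso_resψ _
    haveI := isIso_cadj_unit U ((toU hU).obj (K i))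
    exact KFlatLib.isQCohD_iso
      (DerivedCategory.Q.mapIso (asIso ((cadj U).unit.app ((toU hU).obj (K i)))) ≪≫
        (asIso (DerivedCategory.Q.map
          ((rC U).map ((KFlatLib.resψ Y).app ((toY hU).obj (K i)))))).symm)
      (isQCohD_toU hU (K i))
  · exact (hL.qis ((jC U).map (toUOneIso hU n).hom) (QisOn.of_quasiIso U _)).2 (hL.prop_single_unit n)

/-- The projection map is a quasi-isomorphism on affine opens where the cohomology is
quasi-coherent. -/
theorem pp_of_qcoh (hA : DCoh.IsKFlat A) (hI : DCoh.IsQCohD (DerivedCategory.Q.obj I)) {U : Y.Opens}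
    (hU : IsAffineOpen U) (K : Cx Y)
    (hK : DCoh.IsQCohD (DerivedCategory.Q.obj ((rC U).obj K))) : PP f ψ U K := by
  haveI := PerfCompLib.preservesFiniteLimits_extZero U
  have hL := loc_pp f ψ hA U
  obtain ⟨C, ⟨e⟩⟩ := exists_toU_iso hU _ hK
  obtain ⟨Z, s, hs, g, hg⟩ := DerivedCategory.right_fac e.hom
  haveI : QuasiIso s := (DerivedCategory.isIso_Q_map_iff_quasiIso _ s).1 hs
  haveI : IsIso (DerivedCategory.Q.map g) := by
    have : DerivedCategory.Q.map g = DerivedCategory.Q.map s ≫ e.hom := by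
      rw [hg, IsIso.hom_inv_id_assoc]
    rw [this]
    infer_instance
  haveI : QuasiIso g := (DerivedCategory.isIso_Q_map_iff_quasiIso _ g).1 ‹_›
  have h1 : PP f ψ U ((jC U).obj Z) :=
    (hL.qis ((jC U).map s) (QisOn.of_quasiIso U _)).2 ((devRing_pp f ψ hA hI hU).all C)
  exact (hL.qis _ (qisOn_adjunct U g)).1 h1

end Main

end Groth.Agent.ProjFormLib
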