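import Groth.Agent.ProjFormLib.PushCoprod

/-!
# The projection map and coproducts
-/

set_option autoImplicit false
set_option backward.isDefEq.respectTransparency false
set_option backward.isDefEq.respectTransparency.types false
set_option maxHeartbeats 1000000
set_option linter.style.haveILetI false

universe u

open CategoryTheory CategoryTheory.Limits AlgebraicGeometry HomologicalComplex
open Groth.Agent.DerLib Groth.Agent.PerfDualLib

attribute [local instance] HasDerivedCategory.standard

namespace Groth.Agent.ProjFormLib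

variable {X Y : Scheme.{u}}

/-- `I ⊗ -` and `- ⊗ I`. -/
noncomputable def tLIso (I : Cx X) : Gen.tL (Tb X) I ≅ Gen.tR (Tb X) I :=
  NatIso.ofComponents (fun K => bX I K) (fun {K K'} κ => bX_natural (𝟙 I) κ)

instance preservesColimits_genTL (I : Cx X) (ι : Type u) :
    PreservesColimitsOfShape (Discrete ι) (Gen.tL (Tb X) I) :=
  haveI : PreservesColimitsOfShape (Discrete ι) (Gen.tR (Tb X) I) :=
    inferInstanceAs (PreservesColimitsOfShape (Discrete ι) (PerfDualLib.tR I))
  preservesColimitsOfShape_of_natIso (tLIso I).symm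

instance preservesColimits_pullC (f : X ⟶ Y) (ι : Type u) :
    PreservesColimitsOfShape (Discrete ι) (pullC f) :=
  (cxAdj f).leftAdjoint_preservesColimits.preservesColimitsOfShape

/-- Stalkwise quasi-isomorphisms add up. -/
theorem quasiIso_stalk_sigmaMap {ι : Type u} {C D : ι → Cx X} (a : ∀ i, C i ⟶ D i) (x : X)
    (h : ∀ i, QuasiIso ((KFlatLib.stalkCx X x).map (a i))) :
    QuasiIso ((KFlatLib.stalkCx X x).map (Limits.Sigma.map a)) := by
  let G := KFlatLib.stalkCx X x
  haveI : PreservesColimitsOfShape (Discrete ι) G := inferInstance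
  haveI : ∀ i, IsIso (DerivedCategory.Q.map (G.map (a i))) := fun i =>
    haveI := h i
    inferInstance
  haveI : QuasiIso (Limits.Sigma.map fun i => G.map (a i)) := by
    obtain ⟨hC⟩ := KFlatLib.isColimit_Q_sigma fun i => G.obj (C i)
    obtain ⟨hD⟩ := KFlatLib.isColimit_Q_sigma fun i => G.obj (D i)
    let α : Discrete.functor (fun i => DerivedCategory.Q.obj (G.obj (C i))) ≅
        Discrete.functor (fun i => DerivedCategory.Q.obj (G.obj (D i))) :=
      Discrete.natIso fun i => asIso (DerivedCategory.Q.map (G.map (a i.as)))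
    let hD' := (IsColimit.precomposeHomEquiv α _).symm hD
    have key : DerivedCategory.Q.map (Limits.Sigma.map fun i => G.map (a i)) =
        (hC.coconePointUniqueUpToIso hD').hom := by
      refine hC.hom_ext fun ⟨i⟩ => ?_
      refine Eq.trans ?_ (IsColimit.comp_coconePointUniqueUpToIso_hom hC hD' ⟨i⟩).symm
      exact (DerivedCategory.Q.map_comp _ _).symm.trans ((congrArg DerivedCategory.Q.map
        (Limits.Sigma.ι_map _ i)).trans (DerivedCategory.Q.map_comp _ _))
    refine (DerivedCategory.isIso_Q_map_iff_quasiIso _ _).1 ?_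
    rw [key]
    infer_instance
  have hn : sigmaComparison G C ≫ G.map (Limits.Sigma.map a) =
      (Limits.Sigma.map fun i => G.map (a i)) ≫ sigmaComparison G D := by
    refine Limits.Sigma.hom_ext _ _ fun i => ?_
    rw [ι_comp_sigmaComparison_assoc, Limits.Sigma.ι_map_assoc, ι_comp_sigmaComparison, ← G.map_comp,
      Limits.Sigma.ι_map, G.map_comp]
  haveI : QuasiIso (sigmaComparison G C ≫ G.map (Limits.Sigma.map a)) := by
    rw [hn]
    infer_instance
  exact quasiIso_of_comp_left (sigmaComparison G C) _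

variable (f : X ⟶ Y) {A : Cx Y} {I : Cx X} (ψ : A ⟶ (pushC f).obj I)

/-- The projection map is compatible with coproducts. -/
theorem goodOn_sigma [QuasiCompact f] [QuasiSeparated f] (U : Y.Opens) {ι : Type u} (F : ι → Cx Y)
    (hF : ∀ i, GoodOn f ψ U (F i))
    (hq : ∀ i, DCoh.IsQCohD (DerivedCategory.Q.obj
      ((rC (f ⁻¹ᵁ U)).obj ((Gen.tL (Tb X) I).obj ((pullC f).obj (F i)))))) :
    GoodOn f ψ U (∐ F) := by
  intro x hx
  let Φ := Gen.tL (Tb Y) A
  let Ψ := pullC f ⋙ Gen.tL (Tb X) I
  haveI : PreservesColimitsOfShape (Discrete ι) Ψ := comp_preservesColimitsOfShape _ _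
  choose Ri ri hRi hri using fun i => exists_res (Ψ.obj (F i))
  obtain ⟨R, r, hR, hr⟩ := exists_res (Ψ.obj (∐ F))
  haveI : ∀ i, (Ri i).IsKInjective := hRi
  haveI : ∀ i, QuasiIso (ri i) := hri
  choose e he using fun i => exists_lift_homotopy (ri i) (Ψ.map (Sigma.ι F i) ≫ r)
  have hT : IsColimit (Cofan.mk (Ψ.obj (∐ F)) fun i => Ψ.map (Sigma.ι F i)) :=
    isColimitCofanMkObjOfIsColimit Ψ _ _ (coproductIsCoproduct F)
  have hpush := qisOn_push_sigma f U (fun i => Ψ.obj (F i)) _ _ hT Ri ri R r e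
    (fun i => DerivedCategory.Q_map_eq_of_homotopy _ (he i).some) hq x hx
  refine good_of _ _ _ r ?_
  let G := KFlatLib.stalkCx Y x
  change QuasiIso (G.map (proj f ψ (∐ F) ≫ (pushC f).map r))
  let a : ∀ i, Φ.obj (F i) ⟶ (pushC f).obj (Ri i) := fun i => proj f ψ (F i) ≫ (pushC f).map (ri i)
  haveI hsig : QuasiIso (G.map (Limits.Sigma.map a)) :=
    quasiIso_stalk_sigmaMap a x fun i => hF i x hx (Ri i) (hRi i) (ri i) (hri i)
  let c := sigmaComparison Φ F
  let k := Sigma.desc fun i => (pushC f).map (e i)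
  have H : ∀ i, Nonempty (Homotopy
      (Sigma.ι (fun i => Φ.obj (F i)) i ≫ c ≫ proj f ψ (∐ F) ≫ (pushC f).map r)
      (Sigma.ι (fun i => Φ.obj (F i)) i ≫ Limits.Sigma.map a ≫ k)) := fun i =>
    ⟨(Homotopy.ofEq (by
        rw [ι_comp_sigmaComparison_assoc, reassoc_of% (proj_natural f ψ (Sigma.ι F i)),
          ← Functor.map_comp]
        rfl)).trans ((((Scheme.Modules.pushforward f).mapHomotopy (he i).some.symm).compLeft
          (proj f ψ (F i))).trans (Homotopy.ofEq (by
            rw [Limits.Sigma.ι_map_assoc, Sigma.ι_desc, (pushC f).map_comp]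
            exact (Category.assoc _ _ _).symm)))⟩
  have hQ : DerivedCategory.Q.map (G.map (c ≫ proj f ψ (∐ F) ≫ (pushC f).map r)) =
      DerivedCategory.Q.map (G.map (Limits.Sigma.map a ≫ k)) := by
    obtain ⟨h₀⟩ := KFlatLib.isColimit_Q_sigma fun i => G.obj (Φ.obj (F i))
    haveI : PreservesColimitsOfShape (Discrete ι) G := inferInstance
    rw [← cancel_epi (DerivedCategory.Q.map (sigmaComparison G fun i => Φ.obj (F i)))]
    refine h₀.hom_ext fun ⟨i⟩ => ?_
    change DerivedCategory.Q.map _ ≫ DerivedCategory.Q.map _ ≫ _ =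
      DerivedCategory.Q.map _ ≫ DerivedCategory.Q.map _ ≫ _
    rw [← Functor.map_comp_assoc, ← Functor.map_comp_assoc, ι_comp_sigmaComparison, ← Functor.map_comp, ← Functor.map_comp,
      ← Functor.map_comp, ← Functor.map_comp]
    exact DerivedCategory.Q_map_eq_of_homotopy _
      ((DerSch.stalkFunctor Y x).mapHomotopy (H i).some)
  haveI : QuasiIso (G.map (Limits.Sigma.map a ≫ k)) := by
    rw [Functor.map_comp]
    haveI : QuasiIso (G.map k) := hpush
    infer_instance
  haveI : QuasiIso (G.map (c ≫ proj f ψ (∐ F) ≫ (pushC f).map r)) := by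
    refine (DerivedCategory.isIso_Q_map_iff_quasiIso _ _).1 ?_
    rw [hQ]
    infer_instance
  haveI : QuasiIso (G.map c ≫ G.map (proj f ψ (∐ F) ≫ (pushC f).map r)) := by
    rw [← Functor.map_comp]
    infer_instance
  exact quasiIso_of_comp_left (G.map c) _

variable (hA : DCoh.IsKFlat A)
include hA

/-- `PP` is closed under coproducts. -/
theorem pp_sigma [QuasiCompact f] [QuasiSeparated f] (U : Y.Opens) {ι : Type u} (K : ι → Cx Y)
    (hK : ∀ i, PP f ψ U (K i))
    (hq : ∀ i, DCoh.IsQCohD (DerivedCategory.Q.obj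
      ((rC (f ⁻¹ᵁ U)).obj ((Gen.tL (Tb X) I).obj ((pullC f).obj ((KFlatLib.resP Y).obj (K i))))))) :
    PP f ψ U (∐ K) := by
  let F := fun i => (KFlatLib.resP Y).obj (K i)
  let q : ∐ F ⟶ ∐ K := Limits.Sigma.map fun i => (KFlatLib.resψ Y).app (K i)
  haveI : QuasiIso q := quasiIso_of_qisOn_top fun x _ => quasiIso_stalk_sigmaMap _ x fun i =>
    (KFlatLib.quasiIso_iff_stalks _).1 (KFlatLib.quasiIso_resψ (K i)) x
  exact (pp_iff_flat f ψ hA (KFlatLib.isKFlat_sigma F fun i => (KFlatLib.good_resP (K i)).1) q).2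
    (goodOn_sigma f ψ U F hK hq)

end Groth.Agent.ProjFormLib
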