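import Groth.Agent.PerfDualLib.EvalSteps
import Groth.Agent.PerfDualLib.Homotopy
import Groth.Agent.DerLib.KInjUse

/-!
# Maps into the image of a K-injective resolution
-/

set_option autoImplicit false
set_option backward.isDefEq.respectTransparency false
set_option backward.isDefEq.respectTransparency.types false

open CategoryTheory CategoryTheory.Limits HomologicalComplex
open Groth.Agent.DerLib Groth.Agent.PerfDualLib

universe v v' w

namespace Groth.Agent.ProjFormLib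

variable {A : Type*} [Category.{v} A] [Abelian A]

section Resolutions

variable [HasDerivedCategory.{w} A]

theorem nonempty_homotopy_of_Q {K L : CochainComplex A ℤ} [L.IsKInjective] {a b : K ⟶ L}
    (h : DerivedCategory.Q.map a = DerivedCategory.Q.map b) : Nonempty (Homotopy a b) := by
  have h0 : DerivedCategory.Q.map (a - b) = 0 := by rw [Functor.map_sub, h, sub_self]
  exact ⟨Homotopy.equivSubZero.symm (HomotopyCategory.homotopyOfEq _ 0
    ((KInjUse.quotient_eq_zero_of_Q h0).trans ((HomotopyCategory.quotient _ _).map_zero _ _).symm))⟩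

/-- A quasi-isomorphism into a K-injective complex lifts maps up to homotopy. -/
theorem exists_lift_homotopy {T R R' : CochainComplex A ℤ} [R'.IsKInjective] (r : T ⟶ R) [QuasiIso r]
    (a : T ⟶ R') : ∃ e : R ⟶ R', Nonempty (Homotopy (r ≫ e) a) := by
  obtain ⟨e, he⟩ := KInjUse.Q_map_surjective R R' (inv (DerivedCategory.Q.map r) ≫ DerivedCategory.Q.map a)
  exact ⟨e, nonempty_homotopy_of_Q (by rw [Functor.map_comp, he, IsIso.hom_inv_id_assoc])⟩

/-- A lift which is null homotopic. -/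
theorem exists_null_extension {S : ShortComplex (CochainComplex A ℤ)} (h : KFlatLib.DegSplit S)
    {I : CochainComplex A ℤ} (a : S.X₁ ⟶ I) (ha : Homotopy a 0) :
    ∃ ψ : S.X₂ ⟶ I, S.f ≫ ψ = a ∧ Nonempty (Homotopy ψ 0) := by
  refine ⟨Homotopy.nullHomotopicMap' fun i j _ => (h i).r ≫ ha.hom i j, ?_,
    ⟨Homotopy.nullHomotopy' _⟩⟩
  rw [Homotopy.comp_nullHomotopicMap']
  ext n : 1
  have hc := ha.comm n
  rw [zero_f, add_zero] at hc
  rw [hc, dNext_eq _ (show (ComplexShape.up ℤ).Rel n (n + 1) from rfl),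
    prevD_eq _ (show (ComplexShape.up ℤ).Rel (n - 1) n by simp),
    Homotopy.nullHomotopicMap'_f (show (ComplexShape.up ℤ).Rel (n - 1) n by simp)
      (show (ComplexShape.up ℤ).Rel n (n + 1) from rfl)]
  congr 1
  · congr 1
    exact (Category.assoc _ _ _).symm.trans
      ((congrArg (· ≫ _) (h (n + 1)).f_r).trans (Category.id_comp _))
  · congr 1
    exact (Category.assoc _ _ _).symm.trans
      ((congrArg (· ≫ _) (h n).f_r).trans (Category.id_comp _))

omit [HasDerivedCategory.{w} A] in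
theorem isKInjective_of_contractible {W : CochainComplex A ℤ} (hW : Homotopy (𝟙 W) 0) :
    W.IsKInjective :=
  ⟨fun {P} a _ => ⟨((Homotopy.ofEq (Category.comp_id a).symm).trans
    ((hW.compLeft a).trans (Homotopy.ofEq comp_zero)))⟩⟩

omit [HasDerivedCategory.{w} A] in
theorem isKInjective_biprod {W R : CochainComplex A ℤ} [W.IsKInjective] [R.IsKInjective] :
    CochainComplex.IsKInjective (W ⊞ R) := by
  refine ⟨fun {P} a hP => ?_⟩
  let h₁ := CochainComplex.IsKInjective.homotopyZero (a ≫ biprod.fst) hP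
  let h₂ := CochainComplex.IsKInjective.homotopyZero (a ≫ biprod.snd) hP
  refine ⟨(Homotopy.ofEq ?_).trans ((((h₁.compRight biprod.inl).add (h₂.compRight biprod.inr))).trans
    (Homotopy.ofEq (by simp)))⟩
  simp only [Category.assoc, ← Preadditive.comp_add, biprod.total, Category.comp_id]

omit [HasDerivedCategory.{w} A] in
theorem isKInjective_X₃ {S : ShortComplex (CochainComplex A ℤ)} (h : KFlatLib.DegSplit S)
    [S.X₁.IsKInjective] [S.X₂.IsKInjective] : S.X₃.IsKInjective := by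
  rw [CochainComplex.isKInjective_iff_rightOrthogonal]
  exact (HomotopyCategory.subcategoryAcyclic A).rightOrthogonal.ext_of_isTriangulatedClosed₃
    (CochainComplex.trianglehOfDegreewiseSplit S h)
    ((HomotopyCategory.distinguished_iff_iso_trianglehOfDegreewiseSplit _).2 ⟨_, _, ⟨Iso.refl _⟩⟩)
    (CochainComplex.IsKInjective.rightOrthogonal S.X₁) (CochainComplex.IsKInjective.rightOrthogonal S.X₂)

end Resolutions

variable {B : Type*} [Category.{v'} B] [Abelian B] (G : A ⥤ B) [G.Additive]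
  {C : Type*} [Category* C] [Abelian C] (F : B ⥤ C) [F.Additive]

local notation "G'" => G.mapHomologicalComplex (ComplexShape.up ℤ)
local notation "F'" => F.mapHomologicalComplex (ComplexShape.up ℤ)

theorem quasiIso_iff_of_homotopy {P Q : CochainComplex B ℤ} {a b : P ⟶ Q} (h : Homotopy a b) :
    QuasiIso ((F').map a) ↔ QuasiIso ((F').map b) := by
  have h' := F.mapHomotopy h
  constructor
  · intro ha
    exact ⟨fun i => (quasiIsoAt_iff_isIso_homologyMap _ _).2 (h'.homologyMap_eq i ▸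
      (quasiIsoAt_iff_isIso_homologyMap _ _).1 (ha.quasiIsoAt i))⟩
  · intro ha
    exact ⟨fun i => (quasiIsoAt_iff_isIso_homologyMap _ _).2 ((h'.homologyMap_eq i).symm ▸
      (quasiIsoAt_iff_isIso_homologyMap _ _).1 (ha.quasiIsoAt i))⟩

/-- Composed with the image of any K-injective resolution, `a` is seen as a quasi-isomorphism. -/
def Good {H : CochainComplex B ℤ} {T : CochainComplex A ℤ} (a : H ⟶ (G').obj T) : Prop :=
  ∀ (R : CochainComplex A ℤ) (_ : R.IsKInjective) (r : T ⟶ R) (_ : QuasiIso r),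
    QuasiIso ((F').map (a ≫ (G').map r))

variable [HasDerivedCategory.{w} A]

/-- One resolution is enough. -/
theorem good_of {H : CochainComplex B ℤ} {T : CochainComplex A ℤ} (a : H ⟶ (G').obj T)
    {R : CochainComplex A ℤ} [R.IsKInjective] (r : T ⟶ R) [QuasiIso r]
    (h : QuasiIso ((F').map (a ≫ (G').map r))) : Good G F a := by
  intro R₁ hR₁ r₁ hr₁
  obtain ⟨e, ⟨he⟩⟩ := exists_lift_homotopy r r₁
  obtain ⟨e', ⟨he'⟩⟩ := exists_lift_homotopy r₁ r
  have hQ : ∀ {P P' : CochainComplex A ℤ} {x y : P ⟶ P'}, Homotopy x y →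
      DerivedCategory.Q.map x = DerivedCategory.Q.map y := fun h => DerivedCategory.Q_map_eq_of_homotopy _ h
  have h1 := hQ he
  have h2 := hQ he'
  rw [Functor.map_comp] at h1 h2
  obtain ⟨k⟩ : Nonempty (Homotopy (e ≫ e') (𝟙 R)) := nonempty_homotopy_of_Q (by
    rw [Functor.map_comp, CategoryTheory.Functor.map_id, ← cancel_epi (DerivedCategory.Q.map r),
      reassoc_of% h1, h2, Category.comp_id])
  obtain ⟨k'⟩ : Nonempty (Homotopy (e' ≫ e) (𝟙 R₁)) := nonempty_homotopy_of_Q (by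
    rw [Functor.map_comp, CategoryTheory.Functor.map_id, ← cancel_epi (DerivedCategory.Q.map r₁),
      reassoc_of% h2, h1, Category.comp_id])
  let E : HomotopyEquiv R R₁ := ⟨e, e', k, k'⟩
  haveI : QuasiIso ((F').map ((G').map e)) :=
    (inferInstance : QuasiIso (F.mapHomotopyEquiv (G.mapHomotopyEquiv E)).hom)
  refine (quasiIso_iff_of_homotopy F (((G.mapHomotopy he).compLeft a))).1 ?_
  rw [(G').map_comp, ← Category.assoc, (F').map_comp]
  exact quasiIso_comp _ _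

/-- Invariance. -/
theorem good_iff_of_square {H H' : CochainComplex B ℤ} {T T' : CochainComplex A ℤ}
    (a : H ⟶ (G').obj T) (a' : H' ⟶ (G').obj T') (h : H ⟶ H') (t : T ⟶ T')
    (w : h ≫ a' = a ≫ (G').map t) [QuasiIso ((F').map h)]
    (hT : ∀ T₀ : CochainComplex A ℤ, ∃ (R : CochainComplex A ℤ) (r : T₀ ⟶ R),
      R.IsKInjective ∧ QuasiIso r)
    (ht : ∀ (R R' : CochainComplex A ℤ) (r : T ⟶ R) (r' : T' ⟶ R') (e : R ⟶ R'),
      R.IsKInjective → R'.IsKInjective → QuasiIso r → QuasiIso r' → Homotopy (r ≫ e) (t ≫ r') →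
      QuasiIso ((F').map ((G').map e))) :
    Good G F a ↔ Good G F a' := by
  obtain ⟨R, r, hR, hr⟩ := hT T
  obtain ⟨R', r', hR', hr'⟩ := hT T'
  obtain ⟨e, ⟨he⟩⟩ := exists_lift_homotopy r (t ≫ r')
  haveI := ht R R' r r' e hR hR' hr hr' he
  have k : Homotopy ((a ≫ (G').map r) ≫ (G').map e) (h ≫ a' ≫ (G').map r') :=
    (Homotopy.ofEq (by rw [Category.assoc, ← Functor.map_comp])).trans
      (((G.mapHomotopy he).compLeft a).trans (Homotopy.ofEq (by
        rw [Functor.map_comp, ← Category.assoc, ← w, Category.assoc])))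
  have key := quasiIso_iff_of_homotopy F k
  rw [(F').map_comp (a ≫ (G').map r), (F').map_comp h] at key
  constructor
  · intro ha
    haveI := ha R hR r hr
    haveI : QuasiIso ((F').map h ≫ (F').map (a' ≫ (G').map r')) := key.1 inferInstance
    exact good_of G F a' r' (quasiIso_of_comp_left ((F').map h) _)
  · intro ha
    haveI := ha R' hR' r' hr'
    haveI : QuasiIso ((F').map (a ≫ (G').map r) ≫ (F').map ((G').map e)) := key.2 inferInstance
    exact good_of G F a r (quasiIso_of_comp_right _ ((F').map ((G').map e)))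

/-- Compatible resolutions of a degreewise split sequence. -/
theorem exists_resolution_seq {T : ShortComplex (CochainComplex A ℤ)} (hT : KFlatLib.DegSplit T)
    (hres : ∀ T₀ : CochainComplex A ℤ, ∃ (R : CochainComplex A ℤ) (r : T₀ ⟶ R),
      R.IsKInjective ∧ QuasiIso r) :
    ∃ (S : ShortComplex (CochainComplex A ℤ)) (φ : T ⟶ S), Nonempty (KFlatLib.DegSplit S) ∧
      (S.X₁.IsKInjective ∧ S.X₂.IsKInjective ∧ S.X₃.IsKInjective) ∧
      (QuasiIso φ.τ₁ ∧ QuasiIso φ.τ₂ ∧ QuasiIso φ.τ₃) := by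
  obtain ⟨R₁, r₁, hR₁, hr₁⟩ := hres T.X₁
  obtain ⟨R₂, r₂', hR₂, hr₂'⟩ := hres T.X₂
  obtain ⟨u, ⟨hu⟩⟩ := exists_lift_homotopy r₁ (T.f ≫ r₂')
  obtain ⟨ψ, hψ, ⟨hψ₀⟩⟩ := exists_null_extension hT (r₁ ≫ u - T.f ≫ r₂') (Homotopy.equivSubZero hu)
  let r₂ : T.X₂ ⟶ R₂ := r₂' + ψ
  have hr₂ : T.f ≫ r₂ = r₁ ≫ u := by
    simp only [r₂, Preadditive.comp_add, hψ, add_sub_cancel]
  obtain ⟨W, Q, i, p, hip, ⟨hW⟩, ⟨hS⟩, hi⟩ := exists_degSplit_factor u
  obtain ⟨w, hw⟩ := exists_extension hT (r₁ ≫ i ≫ biprod.fst)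
    ((Homotopy.ofEq (Category.comp_id _).symm).trans
      ((hW.compLeft (r₁ ≫ i ≫ biprod.fst)).trans (Homotopy.ofEq comp_zero)))
  let τ₂ : T.X₂ ⟶ W ⊞ R₂ := biprod.lift w r₂
  have c₁ : r₁ ≫ i = T.f ≫ τ₂ := by
    refine biprod.hom_ext _ _ ?_ ?_
    · simp only [τ₂, Category.assoc, biprod.lift_fst, hw]
    · simp only [τ₂, Category.assoc, biprod.lift_snd, hi, hr₂]
  have hq₂ : QuasiIso τ₂ := by
    haveI : IsIso (DerivedCategory.Q.map r₂') := inferInstance
    have hQ : DerivedCategory.Q.map r₂ = DerivedCategory.Q.map r₂' :=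
      DerivedCategory.Q_map_eq_of_homotopy _ (((Homotopy.refl r₂').add hψ₀).trans
        (Homotopy.ofEq (add_zero _)))
    haveI : QuasiIso r₂ := (DerivedCategory.isIso_Q_map_iff_quasiIso A r₂).1 (hQ ▸ inferInstance)
    haveI : QuasiIso (biprod.snd : W ⊞ R₂ ⟶ R₂) := KFlatLib.quasiIso_g_of_acyclic
      (S := ShortComplex.mk (biprod.inl : W ⟶ W ⊞ R₂) biprod.snd biprod.inl_snd)
      (KFlatLib.shortExact_of_degSplit fun n => ShortComplex.Splitting.map
        { r := biprod.fst, s := biprod.inr, f_r := biprod.inl_fst, s_g := biprod.inr_snd,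
          id := biprod.total } (eval A (ComplexShape.up ℤ) n))
      (KFlatLib.isZero_homology_of_contractible hW)
    haveI : QuasiIso (τ₂ ≫ biprod.snd) := by simp only [τ₂, biprod.lift_snd]; infer_instance
    exact quasiIso_of_comp_right τ₂ biprod.snd
  have hTs := KFlatLib.shortExact_of_degSplit hT
  haveI := hTs.epi_g
  obtain ⟨τ₃, hτ₃⟩ := CokernelCofork.IsColimit.desc' hTs.gIsCokernel (τ₂ ≫ p)
    (by rw [← Category.assoc, ← c₁, Category.assoc, hip, comp_zero])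
  haveI := isKInjective_of_contractible hW
  haveI : CochainComplex.IsKInjective (W ⊞ R₂) := isKInjective_biprod
  let φ : T ⟶ ShortComplex.mk i p hip := ⟨r₁, τ₂, τ₃, c₁, hτ₃.symm⟩
  haveI : (ShortComplex.mk i p hip).X₁.IsKInjective := hR₁
  haveI : (ShortComplex.mk i p hip).X₂.IsKInjective := ‹_›
  exact ⟨_, φ, ⟨hS⟩, ⟨hR₁, inferInstance, isKInjective_X₃ hS⟩, hr₁, hq₂,
    HomologicalComplex.HomologySequence.quasiIso_τ₃ φ hTs (KFlatLib.shortExact_of_degSplit hS) hr₁ hq₂⟩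

variable [PreservesFiniteLimits F] [PreservesFiniteColimits F]

omit [HasDerivedCategory.{w} A] [PreservesFiniteLimits F] [PreservesFiniteColimits F] in
/-- Degreewise split sequences have models in a class of complexes. -/
theorem exists_model_seq (K : CochainComplex A ℤ → Prop)
    (hc : ∀ {W : CochainComplex A ℤ}, Homotopy (𝟙 W) 0 → K W)
    (h₂ : ∀ {S : ShortComplex (CochainComplex A ℤ)}, KFlatLib.DegSplit S → K S.X₁ → K S.X₃ → K S.X₂)
    (h₃ : ∀ {S : ShortComplex (CochainComplex A ℤ)}, KFlatLib.DegSplit S → K S.X₁ → K S.X₂ → K S.X₃)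
    (P : CochainComplex A ℤ ⥤ CochainComplex A ℤ) (π : P ⟶ 𝟭 _) (hπ : ∀ C, QuasiIso (π.app C))
    (hP : ∀ C, K (P.obj C)) {S : ShortComplex (CochainComplex A ℤ)} (hS : KFlatLib.DegSplit S) :
    ∃ (T : ShortComplex (CochainComplex A ℤ)) (φ : T ⟶ S), Nonempty (KFlatLib.DegSplit T) ∧
      (K T.X₁ ∧ K T.X₂ ∧ K T.X₃) ∧ (QuasiIso φ.τ₁ ∧ QuasiIso φ.τ₂ ∧ QuasiIso φ.τ₃) := by
  have hv : P.map S.f ≫ π.app S.X₂ = π.app S.X₁ ≫ S.f := π.naturality S.f
  have hq₁ : QuasiIso (π.app S.X₁) := hπ _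
  have hq₂ : QuasiIso (π.app S.X₂) := hπ _
  obtain ⟨W, Q, i, p, hip, ⟨hW⟩, ⟨hT⟩, hi⟩ := exists_degSplit_factor (P.map S.f)
  let S₀ : ShortComplex (CochainComplex A ℤ) :=
    ShortComplex.mk (biprod.inl : W ⟶ W ⊞ P.obj S.X₂) biprod.snd biprod.inl_snd
  have hS₀ : KFlatLib.DegSplit S₀ := fun n => ShortComplex.Splitting.map
    { r := biprod.fst, s := biprod.inr, f_r := biprod.inl_fst, s_g := biprod.inr_snd,
      id := biprod.total } (eval A (ComplexShape.up ℤ) n)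
  haveI : QuasiIso (biprod.snd : W ⊞ P.obj S.X₂ ⟶ P.obj S.X₂) := KFlatLib.quasiIso_g_of_acyclic
    (S := S₀) (KFlatLib.shortExact_of_degSplit hS₀) (KFlatLib.isZero_homology_of_contractible hW)
  have hTs := KFlatLib.shortExact_of_degSplit hT
  haveI := hTs.epi_g
  let q₂ : W ⊞ P.obj S.X₂ ⟶ S.X₂ := biprod.snd ≫ π.app S.X₂
  have hiq : i ≫ q₂ = π.app S.X₁ ≫ S.f :=
    (Category.assoc _ _ _).symm.trans ((congrArg (· ≫ π.app S.X₂) hi).trans hv)
  obtain ⟨τ₃, hτ₃⟩ := CokernelCofork.IsColimit.desc' hTs.gIsCokernel (q₂ ≫ S.g)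
    (show i ≫ q₂ ≫ S.g = 0 by rw [reassoc_of% hiq, S.zero, comp_zero])
  let φ : ShortComplex.mk i p hip ⟶ S := ⟨π.app S.X₁, q₂, τ₃, hiq.symm, hτ₃.symm⟩
  have hq : QuasiIso q₂ := quasiIso_comp _ _
  have k₂ : K (W ⊞ P.obj S.X₂) := h₂ hS₀ (hc hW) (hP _)
  exact ⟨_, φ, ⟨hT⟩, ⟨hP _, k₂, h₃ hT (hP _) k₂⟩, hq₁, hq,
    HomologicalComplex.HomologySequence.quasiIso_τ₃ φ hTs (KFlatLib.shortExact_of_degSplit hS) hq₁ hq⟩

/-- Two out of three. -/
theorem good_three {H : ShortComplex (CochainComplex B ℤ)} {T : ShortComplex (CochainComplex A ℤ)}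
    (hH : KFlatLib.DegSplit H) (hT : KFlatLib.DegSplit T) (a : H ⟶ T.map G')
    (hres : ∀ T₀ : CochainComplex A ℤ, ∃ (R : CochainComplex A ℤ) (r : T₀ ⟶ R),
      R.IsKInjective ∧ QuasiIso r) :
    (Good G F a.τ₂ → Good G F a.τ₃ → Good G F a.τ₁) ∧
    (Good G F a.τ₁ → Good G F a.τ₃ → Good G F a.τ₂) ∧
    (Good G F a.τ₁ → Good G F a.τ₂ → Good G F a.τ₃) := by
  obtain ⟨S, φ, ⟨hS⟩, ⟨i₁, i₂, i₃⟩, q₁, q₂, q₃⟩ := exists_resolution_seq hT hres
  let ψ : H ⟶ S.map G' := a ≫ (G').mapShortComplex.map φ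
  have hGS : (S.map G').ShortExact := KFlatLib.shortExact_of_degSplit fun n => (hS n).map G
  obtain ⟨k₁, k₂, k₃⟩ := Gen.three_of_map F ψ (KFlatLib.shortExact_of_degSplit hH) hGS
  exact ⟨fun g₂ g₃ => good_of G F a.τ₁ φ.τ₁ (k₁ (g₂ _ i₂ _ q₂) (g₃ _ i₃ _ q₃)),
    fun g₁ g₃ => good_of G F a.τ₂ φ.τ₂ (k₂ (g₁ _ i₁ _ q₁) (g₃ _ i₃ _ q₃)),
    fun g₁ g₂ => good_of G F a.τ₃ φ.τ₃ (k₃ (g₁ _ i₁ _ q₁) (g₂ _ i₂ _ q₂))⟩

end Groth.Agent.ProjFormLib
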