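import Groth.Agent.ProjFormLib.Gen
import Groth.Agent.PerfDualLib.EvalLoc
import Groth.Agent.KFlatLib.LpullTensor
import Groth.Agent.KFlatLib.LpullAdj
import Groth.Agent.DCohRestrLib.Iso

/-!
# Direct images, inverse images and quasi-isomorphisms on an open
-/

set_option autoImplicit false
set_option backward.isDefEq.respectTransparency false
set_option backward.isDefEq.respectTransparency.types false
set_option maxHeartbeats 1000000

universe u

open CategoryTheory CategoryTheory.Limits AlgebraicGeometry HomologicalComplex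
open Groth.Agent.DerLib Groth.Agent.PerfDualLib

attribute [local instance] HasDerivedCategory.standard

namespace Groth.Agent.ProjFormLib

theorem quasiIso_tL_of_square {R : Type u} [CommRing R]
    {L' L P Q : CochainComplex (ModuleCat.{u} R) ℤ} (q : L' ⟶ L) (g : P ⟶ Q)
    [QuasiIso (KFlatLib.tMap q (𝟙 P))] [QuasiIso (KFlatLib.tMap q (𝟙 Q))]
    [QuasiIso (KFlatLib.tMap (𝟙 L') g)] : QuasiIso (KFlatLib.tMap (𝟙 L) g) := by
  have w : KFlatLib.tMap q (𝟙 P) ≫ KFlatLib.tMap (𝟙 L) g =
      KFlatLib.tMap (𝟙 L') g ≫ KFlatLib.tMap q (𝟙 Q) :=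
    (((MonoidalCategory.curriedTensor (ModuleCat.{u} R)).map₂CochainComplex.map q).naturality g).symm
  haveI : QuasiIso (KFlatLib.tMap q (𝟙 P) ≫ KFlatLib.tMap (𝟙 L) g) := by
    rw [w]; infer_instance
  exact quasiIso_of_comp_left (KFlatLib.tMap q (𝟙 P)) _

variable {X Y : Scheme.{u}} (f : X ⟶ Y)

/-- Direct image of complexes. -/
noncomputable abbrev pushC : Cx X ⥤ Cx Y :=
  (Scheme.Modules.pushforward f).mapHomologicalComplex (ComplexShape.up ℤ)

/-- Inverse image of complexes. -/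
noncomputable abbrev pullC : Cx Y ⥤ Cx X := KFlatLib.pullCx f

/-- The adjunction on complexes. -/
noncomputable abbrev cxAdj : pullC f ⊣ pushC f :=
  KInjDerived.mapHomologicalComplexAdj (Scheme.Modules.pullbackPushforwardAdjunction f)
    (ComplexShape.up ℤ)

theorem acyOn_of_isZero {U : X.Opens} {C : Cx X} (h : ∀ n, IsZero (((rC U).obj C).homology n)) :
    AcyOn U C := fun x hx n => (isZero_rC_homology U C n).1 (h n) x hx

theorem qisOn_of_acyOn_cone {U : X.Opens} {C D : Cx X} {e : C ⟶ D}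
    (h : AcyOn U (CochainComplex.mappingCone e)) : QisOn U e := fun x hx =>
  (KFlatLib.acyclic_cone_iff _).1 fun n => (h x hx n).of_iso
    ((HomologicalComplex.homologyFunctor _ _ n).mapIso
      (CochainComplex.mappingCone.mapHomologicalComplexIso e (DerSch.stalkFunctor X x)).symm)

theorem acyOn_cone_of_qisOn {U : X.Opens} {C D : Cx X} {e : C ⟶ D} (h : QisOn U e) :
    AcyOn U (CochainComplex.mappingCone e) := fun x hx n =>
  ((KFlatLib.acyclic_cone_iff _).2 (h x hx) n).of_iso
    ((HomologicalComplex.homologyFunctor _ _ n).mapIso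
      (CochainComplex.mappingCone.mapHomologicalComplexIso e (DerSch.stalkFunctor X x)))

theorem isKInjective_cone {A : Type*} [Category* A] [Abelian A] {R R' : CochainComplex A ℤ}
    [R.IsKInjective] [R'.IsKInjective] (e : R ⟶ R') :
    CochainComplex.IsKInjective (CochainComplex.mappingCone e) := by
  rw [CochainComplex.isKInjective_iff_rightOrthogonal]
  exact (HomotopyCategory.subcategoryAcyclic A).rightOrthogonal.ext_of_isTriangulatedClosed₃
    (CochainComplex.mappingCone.triangleh e)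
    (HomotopyCategory.mappingCone_triangleh_distinguished e)
    (CochainComplex.IsKInjective.rightOrthogonal R) (CochainComplex.IsKInjective.rightOrthogonal R')

/-- The direct image of a K-injective complex acyclic on `f⁻¹U` is acyclic on `U`. -/
theorem acyOn_push {U : Y.Opens} {C : Cx X} [C.IsKInjective] (h : AcyOn (f ⁻¹ᵁ U) C) :
    AcyOn U ((pushC f).obj C) := by
  refine acyOn_of_isZero fun n => ?_
  let V := f ⁻¹ᵁ U
  have hz : ∀ m, IsZero (((rC V).obj C).homology m) := fun m => (isZero_rC_homology V C m).2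
    fun x hx => h x hx m
  haveI : CochainComplex.IsKInjective ((rC V).obj C) := DCohRestrLib.isKInjective_restrictCx V C
  let H : Homotopy (𝟙 ((rC V).obj C)) 0 := CochainComplex.IsKInjective.homotopyZero _
    (fun m => (exactAt_iff_isZero_homology _ _).2 (hz m))
  let g := (Scheme.Modules.pushforward (f ∣_ U)).mapHomologicalComplex (ComplexShape.up ℤ)
  refine (KFlatLib.isZero_homology_of_contractible ((Homotopy.ofEq (g.map_id _).symm).trans
    (((Scheme.Modules.pushforward (f ∣_ U)).mapHomotopy H).trans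
      (Homotopy.ofEq (g.map_zero _ _)))) n).of_iso ?_
  exact (HomologicalComplex.homologyFunctor _ _ n).mapIso
    ((NatIso.mapHomologicalComplex (DCohRestrLib.restrictPushIso f U) (ComplexShape.up ℤ)).app C)

/-- Direct images of quasi-isomorphisms on `f⁻¹U` between K-injective complexes. -/
theorem qisOn_push {U : Y.Opens} {R R' : Cx X} [R.IsKInjective] [R'.IsKInjective] {e : R ⟶ R'}
    (h : QisOn (f ⁻¹ᵁ U) e) : QisOn U ((pushC f).map e) := by
  haveI := isKInjective_cone e
  refine qisOn_of_acyOn_cone fun x hx n => ?_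
  exact (acyOn_push f (acyOn_cone_of_qisOn h) x hx n).of_iso
    ((HomologicalComplex.homologyFunctor _ _ n).mapIso ((KFlatLib.stalkCx Y x).mapIso
      (CochainComplex.mappingCone.mapHomologicalComplexIso e (Scheme.Modules.pushforward f)).symm))

/-- Inverse images of quasi-isomorphisms on `U` between K-flat complexes. -/
theorem qisOn_pull {U : Y.Opens} {P Q : Cx Y} (hP : DCoh.IsKFlat P) (hQ : DCoh.IsKFlat Q)
    {g : P ⟶ Q} (h : QisOn U g) : QisOn (f ⁻¹ᵁ U) ((pullC f).map g) := fun x hx => by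
  haveI : QuasiIso ((KFlatLib.stalkCx Y (f x)).map g) := h (f x) hx
  haveI : QuasiIso ((KFlatLib.extCx f x).map ((KFlatLib.stalkCx Y (f x)).map g)) :=
    KFlatLib.quasiIso_extend _ (KFlatLib.stalks_isKFlat hP _) (KFlatLib.stalks_isKFlat hQ _) _
  haveI : QuasiIso ((KFlatLib.stalkCx X x).map ((pullC f).map g) ≫
      (KFlatLib.stalkPullCxIso f x Q).hom) := by
    rw [KFlatLib.stalkPullCxIso_natural]
    infer_instance
  exact quasiIso_of_comp_right ((KFlatLib.stalkCx X x).map ((pullC f).map g))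
    (KFlatLib.stalkPullCxIso f x Q).hom

/-- Tensoring any complex with a quasi-isomorphism on `U` between K-flat complexes. -/
theorem qisOn_tL_flat {U : X.Opens} (I : Cx X) {P Q : Cx X} (hP : DCoh.IsKFlat P)
    (hQ : DCoh.IsKFlat Q) {g : P ⟶ Q} (h : QisOn U g) : QisOn U ((Gen.tL (Tb X) I).map g) := by
  intro x hx
  let q : (KFlatLib.resP X).obj I ⟶ I := (KFlatLib.resψ X).app I
  have hq : QuasiIso q := KFlatLib.quasiIso_resψ I
  haveI := h x hx
  haveI hqx : QuasiIso ((KFlatLib.stalkCx X x).map q) := (KFlatLib.quasiIso_iff_stalks q).1 hq x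
  haveI := KFlatLib.quasiIso_tMap_right (KFlatLib.stalks_isKFlat hP x) ((KFlatLib.stalkCx X x).map q)
  haveI := KFlatLib.quasiIso_tMap_right (KFlatLib.stalks_isKFlat hQ x) ((KFlatLib.stalkCx X x).map q)
  haveI := KFlatLib.quasiIso_tMap_left
    (KFlatLib.stalks_isKFlat (KFlatLib.good_resP I).1 x) ((KFlatLib.stalkCx X x).map g)
  haveI : QuasiIso (KFlatLib.tMap (𝟙 ((KFlatLib.stalkCx X x).obj I))
      ((KFlatLib.stalkCx X x).map g)) :=
    quasiIso_tL_of_square ((KFlatLib.stalkCx X x).map q) ((KFlatLib.stalkCx X x).map g)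
  have hn := KFlatLib.stalkTensorCxIso_natural x (𝟙 I) g
  haveI : QuasiIso (KFlatLib.tMap ((KFlatLib.stalkCx X x).map (𝟙 I))
      ((KFlatLib.stalkCx X x).map g)) := by
    rw [CategoryTheory.Functor.map_id]
    infer_instance
  haveI : QuasiIso ((KFlatLib.stalkTensorCxIso x I P).hom ≫ (KFlatLib.stalkCx X x).map
      (mapBifunctorMap (𝟙 I) g (DCoh.tensorBi (X := X)) (ComplexShape.up ℤ))) := by
    rw [← hn]
    exact quasiIso_comp _ _
  change QuasiIso ((KFlatLib.stalkCx X x).map
    (mapBifunctorMap (𝟙 I) g (DCoh.tensorBi (X := X)) (ComplexShape.up ℤ)))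
  exact quasiIso_of_comp_left (KFlatLib.stalkTensorCxIso x I P).hom _

theorem isKFlat_of_isZero {C : Cx X} (h : IsZero C) : DCoh.IsKFlat C :=
  KFlatLib.isKFlat_contractible (Homotopy.ofEq (h.eq_of_src _ _))

/-- K-flatness of the quotient of a degreewise split sequence. -/
theorem isKFlat_X₃ {S : ShortComplex (Cx X)} (hS : KFlatLib.DegSplit S) (h₁ : DCoh.IsKFlat S.X₁)
    (h₂ : DCoh.IsKFlat S.X₂) : DCoh.IsKFlat S.X₃ := fun L hL i => by
  obtain ⟨hN⟩ := Gen.nonempty_degSplit_tL (Tb X) L hS (Gen.tL_comp_zero (Tb X) L)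
  have hq := KFlatLib.quasiIso_g_of_acyclic (KFlatLib.shortExact_of_degSplit hN) (h₁ L hL)
  exact (h₂ L hL i).of_iso (isoOfQuasiIsoAt ((Gen.tL (Tb X) L).map S.g) i).symm

theorem isKFlat_X₂ {S : ShortComplex (Cx X)} (hS : KFlatLib.DegSplit S) (h₁ : DCoh.IsKFlat S.X₁)
    (h₃ : DCoh.IsKFlat S.X₃) : DCoh.IsKFlat S.X₂ := fun L hL i => by
  obtain ⟨hN⟩ := Gen.nonempty_degSplit_tL (Tb X) L hS (Gen.tL_comp_zero (Tb X) L)
  have hq := KFlatLib.quasiIso_f_of_acyclic (KFlatLib.shortExact_of_degSplit hN) (h₃ L hL)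
  exact (h₁ L hL i).of_iso (isoOfQuasiIsoAt ((Gen.tL (Tb X) L).map S.f) i).symm

/-- A degreewise split sequence has a K-flat degreewise split model. -/
theorem exists_flat_seq {S : ShortComplex (Cx X)} (hS : KFlatLib.DegSplit S) :
    ∃ (T : ShortComplex (Cx X)) (φ : T ⟶ S), Nonempty (KFlatLib.DegSplit T) ∧
      (DCoh.IsKFlat T.X₁ ∧ DCoh.IsKFlat T.X₂ ∧ DCoh.IsKFlat T.X₃) ∧
      (QuasiIso φ.τ₁ ∧ QuasiIso φ.τ₂ ∧ QuasiIso φ.τ₃) :=
  exists_model_seq (fun C : Cx X => DCoh.IsKFlat C) (fun h => KFlatLib.isKFlat_contractible h)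
    (fun h h₁ h₃ => isKFlat_X₂ h h₁ h₃) (fun h h₁ h₂ => isKFlat_X₃ h h₁ h₂) (KFlatLib.resP X)
    (KFlatLib.resψ X) (fun C => KFlatLib.quasiIso_resψ C) (fun C => (KFlatLib.good_resP C).1) hS

end Groth.Agent.ProjFormLib
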