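import Groth.Agent.ProjFormLib.Pieces
import Groth.Agent.PerfDualLib.Dual
import Groth.Agent.KFlatLib.PerfectPull

/-!
# The projection formula for perfect complexes
-/

set_option autoImplicit false
set_option backward.isDefEq.respectTransparency false
set_option backward.isDefEq.respectTransparency.types false
set_option maxHeartbeats 1000000

universe u

open CategoryTheory CategoryTheory.Limits AlgebraicGeometry HomologicalComplex
open Groth.Agent.DerLib Groth.Agent.PerfDualLib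

attribute [local instance] HasDerivedCategory.standard

namespace Groth.Agent.ProjFormLib

section Generic

variable {C D : Type*} [Category* C] [Category* D] {L : C ⥤ D} {R : D ⥤ C} (adj : L ⊣ R)

/-- Natural comparison isomorphisms, assembled. -/
def natIsoOfSymm (t : C ⥤ C) (L : C ⥤ D) (s : D ⥤ D)
    (e : ∀ F, s.obj (L.obj F) ≅ L.obj (t.obj F))
    (h : ∀ {F F' : C} (κ : F ⟶ F'), s.map (L.map κ) ≫ (e F').hom = (e F).hom ≫ L.map (t.map κ)) :
    t ⋙ L ≅ L ⋙ s :=
  (NatIso.ofComponents e (fun κ => h κ) : L ⋙ s ≅ t ⋙ L).symm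

theorem natIsoOfSymm_hom_app (t : C ⥤ C) (L : C ⥤ D) (s : D ⥤ D)
    (e : ∀ F, s.obj (L.obj F) ≅ L.obj (t.obj F))
    (h : ∀ {F F' : C} (κ : F ⟶ F'), s.map (L.map κ) ≫ (e F').hom = (e F).hom ≫ L.map (t.map κ))
    (F : C) : (natIsoOfSymm t L s e h).hom.app F = (e F).inv := rfl

theorem homEquiv_square {t : C ⥤ C} {s : D ⥤ D} (γ : t ⋙ L ⟶ L ⋙ s) {K K' : C} (κ : K ⟶ K') :
    t.map κ ≫ adj.homEquiv _ _ (γ.app K') = adj.homEquiv _ _ (γ.app K) ≫ R.map (s.map (L.map κ)) := by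
  rw [← adj.homEquiv_naturality_left, ← adj.homEquiv_naturality_right]
  exact congrArg _ (γ.naturality κ)

theorem exists_unit_factor {t : C ⥤ C} (et : t ≅ 𝟭 C) {s : D ⥤ D} (es : s ≅ 𝟭 D)
    (p : t ⋙ L ≅ L ⋙ s) {A : C} {I : D} (ψ : A ⟶ R.obj I) :
    ∃ d : R.obj I ≅ R.obj I, adj.homEquiv _ _ (p.hom.app A ≫ s.map ((adj.homEquiv _ _).symm ψ)) ≫
      R.map (es.hom.app I) = et.hom.app A ≫ ψ ≫ d.hom := by
  let c : L ≅ L := NatIso.ofComponents
    (fun M => (L.mapIso (et.app M)).symm ≪≫ p.app M ≪≫ es.app (L.obj M))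
    fun {M M'} φ => by
      have h1 : L.map φ ≫ L.map (et.inv.app M') = L.map (et.inv.app M) ≫ L.map (t.map φ) :=
        (L.map_comp _ _).symm.trans ((congrArg L.map (et.inv.naturality φ)).trans (L.map_comp _ _))
      have h2 : L.map (t.map φ) ≫ p.hom.app M' = p.hom.app M ≫ s.map (L.map φ) := p.hom.naturality φ
      have h3 : s.map (L.map φ) ≫ es.hom.app (L.obj M') = es.hom.app (L.obj M) ≫ L.map φ :=
        es.hom.naturality (L.map φ)
      simp only [Iso.trans_hom, Iso.symm_hom, Functor.mapIso_inv, Iso.app_inv, Iso.app_hom,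
        Category.assoc]
      rw [reassoc_of% h1, reassoc_of% h2, h3]
  refine ⟨(conjugateIsoEquiv adj adj c).app I, ?_⟩
  rw [← adj.homEquiv_naturality_right]
  apply (adj.homEquiv _ _).symm.injective
  rw [Equiv.symm_apply_apply, adj.homEquiv_naturality_left_symm]
  have h4 : (adj.homEquiv _ _).symm (ψ ≫ ((conjugateIsoEquiv adj adj c).app I).hom) =
      c.hom.app A ≫ (adj.homEquiv _ _).symm ψ := by
    have h := conjugateEquiv_counit adj adj c.hom I
    have h' := c.hom.naturality ψ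
    simp only [Adjunction.homEquiv_counit, Functor.map_comp, Category.assoc, Iso.app_hom,
      conjugateIsoEquiv_apply_hom]
    rw [h, reassoc_of% h']
  refine Eq.trans ?_ (congrArg (L.map (et.hom.app A) ≫ ·) h4.symm)
  have h5 : s.map ((adj.homEquiv _ _).symm ψ) ≫ es.hom.app I =
      es.hom.app (L.obj A) ≫ (adj.homEquiv _ _).symm ψ := es.hom.naturality _
  simp only [Category.assoc, c, NatIso.ofComponents_hom_app, Iso.trans_hom, Iso.symm_hom,
    Functor.mapIso_inv, Iso.app_inv, Iso.app_hom]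
  rw [h5, ← L.map_comp_assoc, Iso.hom_inv_id_app]
  simp

end Generic

section Bifunctor

variable {C D : Type*} [Category* C] [Category* D] {L : C ⥤ D} {R : D ⥤ C} (adj : L ⊣ R)
  (B : C ⥤ C ⥤ C) (B' : D ⥤ D ⥤ D)
  (e : ∀ A F : C, (B'.obj (L.obj A)).obj (L.obj F) ≅ L.obj ((B.obj A).obj F))
  (he₂ : ∀ (A : C) {F F' : C} (κ : F ⟶ F'),
    (B'.obj (L.obj A)).map (L.map κ) ≫ (e A F').hom = (e A F).hom ≫ L.map ((B.obj A).map κ))
  (he₁ : ∀ {A A' : C} (a : A ⟶ A') (F : C),
    (B'.map (L.map a)).app (L.obj F) ≫ (e A' F).hom = (e A F).hom ≫ L.map ((B.map a).app F))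
  {A : C} {I : D} (ψ : A ⟶ R.obj I)

/-- The projection map of a pair of bifunctors. -/
def projGen (F : C) : (B.obj A).obj F ⟶ R.obj ((B'.obj I).obj (L.obj F)) :=
  adj.homEquiv _ _ ((e A F).inv ≫ (B'.map ((adj.homEquiv A I).symm ψ)).app (L.obj F))

include he₂ in
theorem projGen_natural {F F' : C} (κ : F ⟶ F') :
    (B.obj A).map κ ≫ projGen adj B B' e ψ F' =
      projGen adj B B' e ψ F ≫ R.map ((B'.obj I).map (L.map κ)) :=
  homEquiv_square adj ((natIsoOfSymm (B.obj A) L (B'.obj (L.obj A)) (e A) (fun κ => he₂ A κ)).hom ≫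
    Functor.whiskerLeft L (B'.map ((adj.homEquiv A I).symm ψ))) κ

include he₁ in
theorem exists_projGen_unit {U : C} (et : B.flip.obj U ≅ 𝟭 C) (es : B'.flip.obj (L.obj U) ≅ 𝟭 D) :
    ∃ d : R.obj I ≅ R.obj I,
      projGen adj B B' e ψ U ≫ R.map (es.hom.app I) = et.hom.app A ≫ ψ ≫ d.hom :=
  exists_unit_factor adj et es
    (natIsoOfSymm (B.flip.obj U) L (B'.flip.obj (L.obj U)) (fun A => e A U) (fun a => he₁ a U)) ψ

end Bifunctor

end Groth.Agent.ProjFormLib
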