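import Groth.Agent.ProjFormLib.Main
import Groth.Agent.FiltSectLib.Coprod
import Groth.Agent.KFlatLib.DerivedCoprod
import Groth.Agent.DCohRestrLib.MV

/-!
# Direct images of coproducts, on K-injective resolutions
-/

set_option autoImplicit false
set_option backward.isDefEq.respectTransparency false
set_option backward.isDefEq.respectTransparency.types false
set_option maxHeartbeats 1000000
set_option linter.style.haveILetI false

universe u

open CategoryTheory CategoryTheory.Limits AlgebraicGeometry HomologicalComplex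
open Groth.Agent.DerLib Groth.Agent.PerfDualLib

attribute [local instance] HasDerivedCategory.standard

namespace Groth.Agent.ProjFormLib

variable {X Y : Scheme.{u}}

theorem sigmaMap_comparison {C D : Type*} [Category C] [Category D] (G : C ⥤ D) {ι : Type*}
    (P : ι → C) (Q : ι → D) [HasCoproduct P] [HasCoproduct Q] [HasCoproduct fun i => G.obj (P i)]
    (a : ∀ i, Q i ⟶ G.obj (P i)) {Z : C} (k : ∀ i, P i ⟶ Z) :
    Limits.Sigma.map a ≫ sigmaComparison G P ≫ G.map (Sigma.desc k) =
      Sigma.desc fun i => a i ≫ G.map (k i) := by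
  refine Limits.Sigma.hom_ext _ _ fun i => ?_
  rw [Limits.Sigma.ι_map_assoc, ι_comp_sigmaComparison_assoc, Sigma.ι_desc, ← G.map_comp, Sigma.ι_desc]

section Push

variable (f : X ⟶ Y) [DCoh.HasRpush f]

/-- `Rf_*` of a K-injective complex is its direct image. -/
noncomputable def pushIso (R : Cx X) [R.IsKInjective] :
    (DCoh.Rpush f).obj (DerivedCategory.Q.obj R) ≅ DerivedCategory.Q.obj ((pushC f).obj R) :=
  haveI := DCohRestrLib.isIso_pushUnit f R
  (DCoh.Rpush f).mapIso ((DerivedCategory.quotientCompQhIso X.Modules).app R).symm ≪≫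
    (asIso ((DCohRestrLib.pushUnit f).app
      ((HomotopyCategory.quotient X.Modules (ComplexShape.up ℤ)).obj R))).symm ≪≫
    (DerivedCategory.quotientCompQhIso Y.Modules).app ((pushC f).obj R)

theorem pushIso_natural {R R' : Cx X} [R.IsKInjective] [R'.IsKInjective] (e : R ⟶ R') :
    (DCoh.Rpush f).map (DerivedCategory.Q.map e) ≫ (pushIso f R').hom =
      (pushIso f R).hom ≫ DerivedCategory.Q.map ((pushC f).map e) := by
  haveI := DCohRestrLib.isIso_pushUnit f R
  haveI := DCohRestrLib.isIso_pushUnit f R'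
  have h₁ := (DerivedCategory.quotientCompQhIso X.Modules).inv.naturality e
  have h₂ := (DCohRestrLib.pushUnit f).naturality
    ((HomotopyCategory.quotient X.Modules (ComplexShape.up ℤ)).map e)
  have h₃ := (DerivedCategory.quotientCompQhIso Y.Modules).hom.naturality ((pushC f).map e)
  simp only [pushIso, Iso.trans_hom, Functor.mapIso_hom, Iso.symm_hom, asIso_inv, Iso.app_inv,
    Iso.app_hom, Category.assoc]
  rw [← Functor.map_comp_assoc, h₁, Functor.map_comp, Category.assoc]
  refine congrArg (_ ≫ ·) ?_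
  rw [IsIso.eq_inv_comp, ← Category.assoc]
  erw [← h₂]
  rw [Category.assoc, IsIso.hom_inv_id_assoc]
  exact h₃

/-- Direct images of K-injective resolutions preserve coproducts. -/
theorem quasiIso_pushC_sigma [QuasiCompact f] [QuasiSeparated f] {ι : Type u} (Ri : ι → Cx X)
    [∀ i, (Ri i).IsKInjective] (R : Cx X) [R.IsKInjective] (e : ∀ i, Ri i ⟶ R)
    (hc : IsColimit (Cofan.mk (DerivedCategory.Q.obj R) fun i => DerivedCategory.Q.map (e i) :
      Cofan fun i => DerivedCategory.Q.obj (Ri i)))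
    (hq : ∀ i, DCoh.IsQCohD (DerivedCategory.Q.obj (Ri i))) :
    QuasiIso (Sigma.desc fun i => (pushC f).map (e i)) := by
  haveI : HasFiniteBiproducts X.Modules := Abelian.hasFiniteBiproducts
  haveI : HasFiniteBiproducts Y.Modules := Abelian.hasFiniteBiproducts
  let K := fun i => DerivedCategory.Q.obj (Ri i)
  haveI : HasCoproduct K := ⟨⟨⟨_, hc⟩⟩⟩
  haveI : HasCoproduct (fun i => (DCoh.Rpush f).obj (K i)) :=
    @hasColimit_of_iso _ _ _ _ _ _
      (⟨⟨⟨_, (KFlatLib.isColimit_Q_sigma fun i => (pushC f).obj (Ri i)).some⟩⟩⟩ :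
        HasCoproduct fun i => DerivedCategory.Q.obj ((pushC f).obj (Ri i)))
      (Discrete.natIso fun i => pushIso f (Ri i.as))
  haveI : IsIso (sigmaComparison (DCoh.Rpush f) K) :=
    FiltSectLib.isIso_sigmaDesc_rpush_of_isQCohD f K hq
  haveI := PreservesCoproduct.of_iso_comparison (DCoh.Rpush f) K
  let h₁ : IsColimit (Cofan.mk ((DCoh.Rpush f).obj (DerivedCategory.Q.obj R))
      fun i => (DCoh.Rpush f).map (DerivedCategory.Q.map (e i))) :=
    isColimitCofanMkObjOfIsColimit (DCoh.Rpush f) K _ hc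
  let h₂ : IsColimit (Cofan.mk (DerivedCategory.Q.obj ((pushC f).obj R))
      fun i => DerivedCategory.Q.map ((pushC f).map (e i))) :=
    ((IsColimit.precomposeInvEquiv (Discrete.natIso fun i => pushIso f (Ri i.as)) _).symm h₁)
      |>.ofIsoColimit (Cocone.ext (pushIso f R) fun ⟨i⟩ => by
        change ((pushIso f (Ri i)).inv ≫ (DCoh.Rpush f).map (DerivedCategory.Q.map (e i))) ≫
          (pushIso f R).hom = _
        rw [Category.assoc, pushIso_natural, Iso.inv_hom_id_assoc]
        rfl)
  obtain ⟨h₃⟩ := KFlatLib.isColimit_Q_sigma fun i => (pushC f).obj (Ri i)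
  have key : DerivedCategory.Q.map (Sigma.desc fun i => (pushC f).map (e i)) =
      (h₃.coconePointUniqueUpToIso h₂).hom := by
    refine h₃.hom_ext fun ⟨i⟩ => ?_
    refine Eq.trans ?_ (IsColimit.comp_coconePointUniqueUpToIso_hom h₃ h₂ ⟨i⟩).symm
    exact (DerivedCategory.Q.map_comp _ _).symm.trans
      (congrArg DerivedCategory.Q.map (Sigma.ι_desc _ _))
  refine (DerivedCategory.isIso_Q_map_iff_quasiIso _ _).1 ?_
  rw [key]
  infer_instance

end Push

variable (f : X ⟶ Y)

/-- On `U`, direct images of resolutions of a coproduct are the coproduct of the direct images. -/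
theorem qisOn_push_sigma [QuasiCompact f] [QuasiSeparated f] (U : Y.Opens) {ι : Type u}
    (Ti : ι → Cx X) (T : Cx X) (t : ∀ i, Ti i ⟶ T) (hT : IsColimit (Cofan.mk T t))
    (Ri : ι → Cx X) [∀ i, (Ri i).IsKInjective] (ri : ∀ i, Ti i ⟶ Ri i) [∀ i, QuasiIso (ri i)]
    (R : Cx X) [R.IsKInjective] (r : T ⟶ R) [QuasiIso r] (e : ∀ i, Ri i ⟶ R)
    (he : ∀ i, DerivedCategory.Q.map (ri i ≫ e i) = DerivedCategory.Q.map (t i ≫ r))
    (hq : ∀ i, DCoh.IsQCohD (DerivedCategory.Q.obj ((rC (f ⁻¹ᵁ U)).obj (Ti i)))) :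
    QisOn U (Sigma.desc fun i => (pushC f).map (e i)) := by
  let V := f ⁻¹ᵁ U
  let g := f ∣_ U
  haveI := DCohRestrLib.hasRpush g
  haveI : ∀ i, ((rC V).obj (Ri i)).IsKInjective := fun i => DCohRestrLib.isKInjective_restrictCx V _
  haveI : CochainComplex.IsKInjective ((rC V).obj R) := DCohRestrLib.isKInjective_restrictCx V _
  haveI : PreservesColimitsOfShape (Discrete ι) (rC V) := inferInstance
  haveI : PreservesColimitsOfShape (Discrete ι) (rC U) := inferInstance
  let d : DerivedCategory.Q.obj ((rC V).obj T) ≅ DerivedCategory.Q.obj ((rC V).obj R) :=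
    asIso (DerivedCategory.Q.map ((rC V).map r))
  let di : ∀ i, DerivedCategory.Q.obj ((rC V).obj (Ti i)) ≅ DerivedCategory.Q.obj ((rC V).obj (Ri i)) :=
    fun i => asIso (DerivedCategory.Q.map ((rC V).map (ri i)))
  have he' : ∀ i, DerivedCategory.Q.map ((rC V).map (ri i)) ≫ DerivedCategory.Q.map ((rC V).map (e i)) =
      DerivedCategory.Q.map ((rC V).map (t i)) ≫ DerivedCategory.Q.map ((rC V).map r) := fun i => by
    rw [← Functor.map_comp, ← Functor.map_comp, ← Functor.map_comp, ← Functor.map_comp]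
    obtain ⟨H⟩ := nonempty_homotopy_of_Q (he i)
    exact DerivedCategory.Q_map_eq_of_homotopy _ ((Scheme.Modules.restrictFunctor V.ι).mapHomotopy H)
  obtain ⟨h₀⟩ := KFlatLib.isColimit_Q_sigma fun i => (rC V).obj (Ti i)
  let E : (∐ fun i => (rC V).obj (Ti i)) ≅ (rC V).obj T :=
    (coproductIsCoproduct fun i => (rC V).obj (Ti i)).coconePointUniqueUpToIso
      (isColimitCofanMkObjOfIsColimit (rC V) Ti t hT)
  have hE : ∀ i, Sigma.ι (fun i => (rC V).obj (Ti i)) i ≫ E.hom = (rC V).map (t i) := fun i =>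
    IsColimit.comp_coconePointUniqueUpToIso_hom (coproductIsCoproduct fun i => (rC V).obj (Ti i))
      (isColimitCofanMkObjOfIsColimit (rC V) Ti t hT) (Discrete.mk i)
  let hc : IsColimit (Cofan.mk (DerivedCategory.Q.obj ((rC V).obj R))
      fun i => DerivedCategory.Q.map ((rC V).map (e i))) :=
    ((IsColimit.precomposeInvEquiv (Discrete.natIso fun i => di i.as) _).symm h₀)
      |>.ofIsoColimit (Cocone.ext (DerivedCategory.Q.mapIso E ≪≫ d) fun ⟨i⟩ => by
        change ((di i).inv ≫ DerivedCategory.Q.map (Sigma.ι (fun i => (rC V).obj (Ti i)) i)) ≫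
          DerivedCategory.Q.map E.hom ≫ d.hom = DerivedCategory.Q.map ((rC V).map (e i))
        rw [Category.assoc, ← Functor.map_comp_assoc, hE, Iso.inv_comp_eq]
        exact (he' i).symm)
  have key := quasiIso_pushC_sigma g (fun i => (rC V).obj (Ri i)) ((rC V).obj R)
    (fun i => (rC V).map (e i)) hc fun i => KFlatLib.isQCohD_iso (di i) (hq i)
  let ν : pushC f ⋙ rC U ≅ rC V ⋙ pushC g :=
    NatIso.mapHomologicalComplex (DCohRestrLib.restrictPushIso f U) (ComplexShape.up ℤ)
  refine qisOn_of_quasiIso_rC U ?_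
  have h : (Limits.Sigma.map fun i => ν.inv.app (Ri i)) ≫
      sigmaComparison (rC U) (fun i => (pushC f).obj (Ri i)) ≫
      (rC U).map (Sigma.desc fun i => (pushC f).map (e i)) =
      Sigma.desc (fun i => (pushC g).map ((rC V).map (e i))) ≫ ν.inv.app R := by
    refine (sigmaMap_comparison (rC U) (fun i => (pushC f).obj (Ri i))
      (fun i => (rC V ⋙ pushC g).obj (Ri i)) (fun i => ν.inv.app (Ri i))
      (fun i => (pushC f).map (e i))).trans (Limits.Sigma.hom_ext _ _ fun i => ?_)
    refine (Sigma.ι_desc _ i).trans ((ν.inv.naturality (e i)).symm.trans ?_)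
    exact (Sigma.ι_desc_assoc (fun i => (pushC g).map ((rC V).map (e i))) i (ν.inv.app R)).symm
  haveI : QuasiIso ((Limits.Sigma.map fun i => ν.inv.app (Ri i)) ≫
      sigmaComparison (rC U) (fun i => (pushC f).obj (Ri i)) ≫
      (rC U).map (Sigma.desc fun i => (pushC f).map (e i))) := by
    rw [h]
    infer_instance
  haveI := quasiIso_of_comp_left (Limits.Sigma.map fun i => ν.inv.app (Ri i))
    (sigmaComparison (rC U) (fun i => (pushC f).obj (Ri i)) ≫
      (rC U).map (Sigma.desc fun i => (pushC f).map (e i)))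
  exact quasiIso_of_comp_left (sigmaComparison (rC U) (fun i => (pushC f).obj (Ri i))) _

end Groth.Agent.ProjFormLib
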